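import Cfsg.Agent.Lib.BS.Higman2
import Mathlib.NumberTheory.Basic

/-! Multiplicative identities on large subgroups of the units of a finite field of characteristic two. -/

set_option autoImplicit false
set_option linter.unusedSectionVars false
set_option linter.style.haveILetI false

namespace Cfsg.Lib.Sz2

open Finset Cfsg.Lib.BS

theorem gap {n : ℕ} (hn : 0 < n) (T : Finset ℕ) (hT : T.card ≤ 4) :
    ∃ s, ∀ x ∈ T, (x + s) % n ≤ 3 * n / 4 := by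
  by_contra h
  push Not at h
  choose f hf hf' using h
  have := card_le_card_of_injOn (s := range n) (t := T ×ˢ Ioo (3 * n / 4) n)
    (fun s => (f s, (f s + s) % n))
    (fun s _ => by simp [hf s, hf' s, Nat.mod_lt _ hn]) fun s hs t ht e => by
      simp only [Prod.mk.injEq] at e
      obtain ⟨e1, e2⟩ := e
      rw [← e1] at e2
      exact Nat.ModEq.eq_of_lt_of_lt (Nat.ModEq.add_left_cancel' _ e2) (by simpa using hs)
        (by simpa using ht)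
  rw [card_range, card_product, Nat.card_Ioo] at this
  have h2 := Nat.mul_le_mul_right (n - 3 * n / 4 - 1) hT
  omega

theorem small : ∀ n < 21, ∀ m < 21, ¬ (0 < n ∧ n % m = 0 ∧ (2 ^ n - 1) % m = 0) ∨
    m = 1 ∨ (n = 6 ∧ m = 3) ∨ m * 2 ^ (3 * n / 4 + 1) ≤ 2 ^ n := by decide +kernel

theorem four_mul_le (k : ℕ) : 4 * (k + 6) ≤ 2 ^ (k + 5) := by
  induction k with
  | zero => norm_num
  | succ k ih => rw [show k + 1 + 5 = k + 5 + 1 by ring, pow_succ]; omega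

theorem size {n m : ℕ} (hn : 0 < n) (h1 : m ∣ n) (h2 : m ∣ 2 ^ n - 1) :
    m = 1 ∨ (n = 6 ∧ m = 3) ∨ m * 2 ^ (3 * n / 4 + 1) ≤ 2 ^ n := by
  have hm := Nat.le_of_dvd hn h1
  by_cases h : n < 21
  · exact (small n h m (by omega)).resolve_left
      (not_not.mpr ⟨hn, Nat.mod_eq_zero_of_dvd h1, Nat.mod_eq_zero_of_dvd h2⟩)
  refine Or.inr (Or.inr ?_)
  obtain ⟨k, hk⟩ : ∃ k, n = 3 * n / 4 + 1 + (k + 5) := ⟨n - 3 * n / 4 - 6, by omega⟩
  have := four_mul_le k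
  conv_rhs => rw [hk, pow_add, mul_comm]
  exact Nat.mul_le_mul_right _ (by omega)

theorem pow_mod_modEq (n a : ℕ) : 2 ^ a ≡ 2 ^ (a % n) [MOD 2 ^ n - 1] := by
  conv_lhs => rw [← Nat.mod_add_div a n, pow_add, pow_mul]
  have : 2 ^ n ≡ 1 [MOD 2 ^ n - 1] :=
    ((Nat.modEq_iff_dvd' Nat.one_le_two_pow).mpr dvd_rfl).symm
  simpa using (this.pow (a / n)).mul_left (2 ^ (a % n))

theorem four {n m N : ℕ} (hn : 0 < n) (hN : N * m = 2 ^ n - 1) (hs : m * 2 ^ (3 * n / 4 + 1) ≤ 2 ^ n)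
    {a b c d : ℕ} (h : 2 ^ a + 2 ^ b ≡ 2 ^ c + 2 ^ d [MOD N]) :
    2 ^ a + 2 ^ b ≡ 2 ^ c + 2 ^ d [MOD 2 ^ n - 1] := by
  obtain ⟨s, hs'⟩ := gap hn {a, b, c, d} card_le_four
  have key : ∀ x y, 2 ^ s * (2 ^ x + 2 ^ y) ≡ 2 ^ ((x + s) % n) + 2 ^ ((y + s) % n) [MOD 2 ^ n - 1] :=
    fun x y => by
      rw [mul_add, ← pow_add, ← pow_add, add_comm s, add_comm s]
      exact (pow_mod_modEq _ _).add (pow_mod_modEq _ _)
  have hd : N ∣ 2 ^ n - 1 := ⟨m, hN.symm⟩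
  have h1 := ((key a b).of_dvd hd).symm.trans ((h.mul_left _).trans ((key c d).of_dvd hd))
  have hb : ∀ x ∈ ({a, b, c, d} : Finset ℕ), 2 ^ ((x + s) % n) ≤ 2 ^ (3 * n / 4) := fun x hx =>
    Nat.pow_le_pow_right two_pos (hs' x hx)
  have hp : ∀ x, 0 < 2 ^ ((x + s) % n) := fun x => Nat.two_pow_pos _
  have hm : 0 < m := Nat.pos_of_ne_zero fun e => by
    have : 1 < 2 ^ n := Nat.one_lt_two_pow hn.ne'
    rw [e] at hN; omega
  have hNl : 2 ^ (3 * n / 4 + 1) ≤ N + 1 := by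
    by_contra hc
    have h3 : m * (N + 2) ≤ m * 2 ^ (3 * n / 4 + 1) := Nat.mul_le_mul_left _ (by omega)
    have : 1 ≤ 2 ^ n := Nat.one_le_two_pow
    rw [mul_add, mul_comm m N, hN] at h3
    omega
  rw [pow_succ] at hNl
  have e : 2 ^ ((a + s) % n) + 2 ^ ((b + s) % n) = 2 ^ ((c + s) % n) + 2 ^ ((d + s) % n) := by
    have ha := hb a (by simp); have hb' := hb b (by simp); have hc := hb c (by simp)
    have hd := hb d (by simp)
    have := hp a; have := hp b; have := hp c; have := hp d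
    refine h1.eq_of_abs_lt (abs_lt.mpr ⟨?_, ?_⟩) <;> omega
  refine Nat.ModEq.cancel_left_of_coprime (c := 2 ^ s) ?_ ((key a b).trans (e ▸ (key c d).symm))
  refine Nat.Coprime.pow_right _ (Nat.coprime_two_right.mpr ?_)
  exact Nat.Even.sub_odd Nat.one_le_two_pow (Even.pow_of_ne_zero even_two hn.ne') odd_one

theorem three6 {a b c : ℕ} (h : 2 ^ a + 2 ^ b ≡ 2 ^ c [MOD 21]) : 2 ^ a ≡ 2 ^ b [MOD 2 ^ 6 - 1] := by
  have key : ∀ a < 6, ∀ b < 6, ∀ c < 6, 2 ^ a + 2 ^ b ≡ 2 ^ c [MOD 21] → a = b := by decide +kernel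
  have h1 := fun x => (pow_mod_modEq 6 x).of_dvd (show 21 ∣ 2 ^ 6 - 1 by norm_num)
  have := key _ (Nat.mod_lt a (by norm_num)) _ (Nat.mod_lt b (by norm_num)) _ (Nat.mod_lt c (by norm_num))
    ((((h1 a).add (h1 b)).symm.trans h).trans (h1 c))
  exact (pow_mod_modEq 6 a).trans (this ▸ (pow_mod_modEq 6 b).symm)

theorem prime_dvd {n m N r : ℕ} (hn : 0 < n) (hN : N * m = 2 ^ n - 1) (hm : m ∣ n) (hr : r.Prime)
    (h : r ∣ 2 ^ n - 1) : r ∣ N := by
  by_contra hc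
  haveI := Fact.mk hr
  have h0 : 2 ^ n - 1 ≠ 0 := by have : 1 < 2 ^ n := Nat.one_lt_two_pow hn.ne'; omega
  have hm0 : m ≠ 0 := fun e => h0 (by rw [← hN, e, mul_zero])
  obtain ⟨j, k, hk, rfl⟩ := Nat.exists_eq_pow_mul_and_not_dvd hm0 r hr.ne_one
  obtain ⟨l, rfl⟩ := (dvd_mul_right _ k).trans hm
  have h1 : (r : ℤ) ∣ 2 ^ l - 1 := by
    have h2 : ((2 ^ (r ^ j * l) - 1 : ℕ) : ZMod r) = 0 := (ZMod.natCast_eq_zero_iff _ _).mpr h
    rw [Nat.cast_sub Nat.one_le_two_pow, mul_comm, pow_mul] at h2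
    push_cast at h2
    rw [ZMod.pow_card_pow] at h2
    exact (ZMod.intCast_zmod_eq_zero_iff_dvd _ _).mp (by push_cast; exact h2)
  have h2 := dvd_sub_pow_of_dvd_sub h1 j
  rw [one_pow, ← pow_mul, mul_comm l] at h2
  have h3 : r ^ (j + 1) ∣ 2 ^ (r ^ j * l) - 1 := by
    rw [← Int.natCast_dvd_natCast, Nat.cast_sub Nat.one_le_two_pow]; push_cast; exact h2
  rw [← hN, mul_left_comm, pow_succ] at h3
  exact hr.not_dvd_mul hc hk (Nat.dvd_of_mul_dvd_mul_left (pow_pos hr.pos j) h3)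

variable (F : Type*) [Field F]

/-- Identities with four automorphisms extend from the `N`-th roots of unity. -/
def U4 (N : ℕ) : Prop := ∀ σ τ σ' τ' : F ≃+* F,
  (∀ u : F, u ^ N = 1 → σ u * τ u = σ' u * τ' u) → ∀ u, σ u * τ u = σ' u * τ' u

/-- The identity with three automorphisms. -/
def U3 (N : ℕ) : Prop := ∀ σ τ ρ : F ≃+* F, (∀ u : F, u ^ N = 1 → σ u * τ u = ρ u) → σ = τ

/-- Every nontrivial subgroup of the units meets the `N`-th roots of unity. -/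
def PR (N : ℕ) : Prop := ∀ u : F, u ≠ 0 → u ≠ 1 → ∃ k, u ^ k ≠ 1 ∧ (u ^ k) ^ N = 1

variable {F} [Finite F] [CharP F 2]

theorem U4.u3 {N : ℕ} (h : U4 F N) : U3 F N := fun σ τ ρ e => by
  haveI := Invol.fact_two
  let ρ' : F ≃+* F := (frobeniusEquiv F 2).symm.trans ρ
  have h1 : ∀ u, ρ' u * ρ' u = ρ u := fun u => by
    simp only [ρ', RingEquiv.trans_apply]
    rw [← map_mul, ← sq, ← frobenius_def, frobenius_apply_frobeniusEquiv_symm]
  exact aut_eq_of_mul' (ρ := ρ) fun x _ => (h σ τ ρ' ρ' (fun u hu => (e u hu).trans (h1 u).symm) x).trans (h1 x)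

theorem pow_card_pred {n : ℕ} (hn : Nat.card F = 2 ^ n) {u : F} (hu : u ≠ 0) : u ^ (2 ^ n - 1) = 1 := by
  haveI := Fintype.ofFinite F
  rw [← hn, Nat.card_eq_fintype_card]; exact FiniteField.pow_card_sub_one_eq_one u hu

theorem exists_order {n m N : ℕ} (hn : Nat.card F = 2 ^ n) (h0 : 0 < n) (hN : N * m = 2 ^ n - 1) :
    ∃ u : F, orderOf u = N := by
  obtain ⟨g, hg⟩ := IsCyclic.exists_ofOrder_eq_natCard (α := Fˣ)
  rw [Nat.card_units, hn, ← hN] at hg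
  have hm : m ≠ 0 := fun e => by
    have : 1 < 2 ^ n := Nat.one_lt_two_pow h0.ne'
    rw [e] at hN; omega
  refine ⟨(g ^ m : Fˣ), ?_⟩
  rw [orderOf_units, orderOf_pow_of_dvd hm (hg ▸ dvd_mul_left _ _), hg,
    Nat.mul_div_cancel _ (Nat.pos_of_ne_zero hm)]

theorem pow_eq_of_modEq {n a b : ℕ} (hn : Nat.card F = 2 ^ n) (ha : a ≠ 0) (hb : b ≠ 0)
    (h : a ≡ b [MOD 2 ^ n - 1]) (u : F) : u ^ a = u ^ b := by
  by_cases e : u = 0
  · simp [e, ha, hb]
  exact pow_eq_pow_of_modEq h (pow_card_pred hn e)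

theorem arith {n m N : ℕ} (hn : Nat.card F = 2 ^ n) (h0 : 0 < n) (hN : N * m = 2 ^ n - 1) (hm : m ∣ n) :
    PR F N ∧ U3 F N ∧ (U4 F N ∨ 3 ∣ N) := by
  haveI := Invol.fact_two
  obtain ⟨u₀, hu⟩ := exists_order hn h0 hN
  have hu1 : u₀ ^ N = 1 := hu ▸ pow_orderOf_eq_one u₀
  have hN0 : 0 < N := Nat.pos_of_ne_zero fun e => by
    have : 1 < 2 ^ n := Nat.one_lt_two_pow h0.ne'
    rw [e] at hN; omega
  have hfin : IsOfFinOrder u₀ := orderOf_pos_iff.mp (hu ▸ hN0)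
  have h4 : ¬ (n = 6 ∧ m = 3) → U4 F N := fun hx σ τ σ' τ' e => by
    obtain ⟨a, ha⟩ := exists_pow_of_aut 2 σ
    obtain ⟨b, hb⟩ := exists_pow_of_aut 2 τ
    obtain ⟨c, hc⟩ := exists_pow_of_aut 2 σ'
    obtain ⟨d, hd⟩ := exists_pow_of_aut 2 τ'
    have h1 := e u₀ hu1
    simp only [ha, hb, hc, hd, ← pow_add] at h1 ⊢
    rw [hfin.pow_eq_pow_iff_modEq, hu] at h1
    refine pow_eq_of_modEq hn (by positivity) (by positivity) ?_
    rcases size h0 hm ⟨N, by rw [← hN, mul_comm]⟩ with rfl | h | h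
    · rwa [← hN, mul_one]
    · exact absurd h hx
    · exact four h0 hN h h1
  refine ⟨fun u hu0 hu1 => ?_, ?_, ?_⟩
  · have hd : orderOf u ∣ 2 ^ n - 1 := orderOf_dvd_of_pow_eq_one (pow_card_pred hn hu0)
    have hp : 0 < orderOf u := Nat.pos_of_dvd_of_pos hd (by
      have : 1 < 2 ^ n := Nat.one_lt_two_pow h0.ne'; omega)
    obtain ⟨r, hr, k, hk⟩ := Nat.exists_prime_and_dvd (n := orderOf u) (by rwa [Ne, orderOf_eq_one_iff])
    obtain ⟨l, hl⟩ := prime_dvd h0 hN hm hr ((Dvd.intro _ hk.symm).trans hd)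
    refine ⟨k, fun e => ?_, by rw [hl, pow_mul, ← pow_mul u, mul_comm k, ← hk, pow_orderOf_eq_one, one_pow]⟩
    have := Nat.le_of_dvd (Nat.pos_of_mul_pos_left (hk ▸ hp)) (orderOf_dvd_of_pow_eq_one e)
    have h2 := Nat.mul_le_mul_right k hr.two_le
    omega
  · by_cases hx : n = 6 ∧ m = 3
    · obtain ⟨rfl, rfl⟩ := hx
      obtain rfl : N = 21 := by omega
      intro σ τ ρ e
      obtain ⟨a, ha⟩ := exists_pow_of_aut 2 σ
      obtain ⟨b, hb⟩ := exists_pow_of_aut 2 τ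
      obtain ⟨c, hc⟩ := exists_pow_of_aut 2 ρ
      have h1 := e u₀ hu1
      simp only [ha, hb, hc, ← pow_add] at h1
      rw [hfin.pow_eq_pow_iff_modEq, hu] at h1
      ext x
      rw [ha, hb]
      exact pow_eq_of_modEq hn (by positivity) (by positivity) (three6 h1) x
    · exact (h4 hx).u3
  · by_cases hx : n = 6 ∧ m = 3
    · obtain ⟨rfl, rfl⟩ := hx
      exact Or.inr (by omega)
    · exact Or.inl (h4 hx)

theorem PR.surj {N : ℕ} (h : PR F N) (f : F →*₀ F) (hf : ∀ u, u ^ N = 1 → f u = 1 → u = 1) :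
    Function.Surjective f := by
  refine Finite.injective_iff_surjective.mp fun x y e => ?_
  by_cases hy : y = 0
  · subst hy; simpa using e
  have hx : x ≠ 0 := fun e' => hy (by rw [e', map_zero, eq_comm, map_eq_zero] at e; exact e)
  by_contra hne
  obtain ⟨k, h1, h2⟩ := h (x / y) (div_ne_zero hx hy) fun e' => hne ((div_eq_one_iff_eq hy).mp e')
  exact h1 (hf _ h2 (by rw [map_pow, map_div₀, e, div_self ((map_ne_zero f).mpr hy), one_pow]))

theorem U3.alt_zero {N : ℕ} (hN : U3 F N) {C : F →+ F →+ F} {ρ : F ≃+* F} (h0 : ∀ x, C x x = 0)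
    (h : ∀ a, a ^ N = 1 → ∀ x y, C (a * x) (a * y) = ρ a * C x y) (x y : F) : C x y = 0 := by
  obtain ⟨c, hc⟩ := exists_sum_aut₂ C
  obtain ⟨w, hw⟩ := exists_sq' (x * y)
  rw [← h0 w, hc, hc]
  refine sum_congr rfl fun p _ => ?_
  by_cases hp : c p = 0
  · simp [hp]
  rw [hN p.1 p.2 ρ fun a ha => support_equivariant
    (fun x y => by rw [← hc, ← hc, h a ha]) hp, ← map_mul, ← map_mul, hw]

end Cfsg.Lib.Sz2
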