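import Cfsg.Agent.Lib.Sz2.A

/-! Sections of a `2`-group under a large cyclic fixed point free group. -/

set_option autoImplicit false
set_option linter.unusedSectionVars false
set_option linter.style.haveILetI false

namespace Cfsg.Lib.Sz2

open Subgroup Cfsg.Lib.BS Cfsg.Lib.Transfer Cfsg.Lib.Invol Cfsg.Lib.Coprime
open scoped commutatorElement

section field

variable {F : Type*} [Field F] [Finite F] [CharP F 2] {N : ℕ}

theorem ext_T (h4 : U4 F N) (hp : PR F N) {T : F →+ F →+ F}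
    (hT : ∀ u, u ^ N = 1 → u ≠ 0 ∧ ∃ v, (v = 1 → u = 1) ∧ ∀ a x, T (u * a) (v * x) = u * T a x)
    {a₀ x₀ : F} (h0 : T a₀ x₀ ≠ 0) :
    (∀ c, c ≠ 0 → ∃ d, d ≠ 0 ∧ ∀ a x, T (c * a) (d * x) = c * T a x) ∧
      ∀ d, d ≠ 0 → ∃ c, c ≠ 0 ∧ ∀ a x, T (c * a) (d * x) = c * T a x := by
  obtain ⟨c, hc⟩ := exists_sum_aut₂ T
  obtain ⟨p, -, hp0⟩ := Finset.exists_ne_zero_of_sum_ne_zero (hc a₀ x₀ ▸ h0)
  have hs : ∀ q, c q ≠ 0 → ∀ u v, (∀ a x, T (u * a) (v * x) = u * T a x) → q.1 u * q.2 v = u :=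
    fun q hq u v e => support_equivariant (fun x y => by rw [← hc, ← hc, e]) hq
  let f : F →*₀ F :=
    { toFun := fun u => p.2.symm (u * (p.1 u)⁻¹)
      map_zero' := by simp
      map_one' := by simp
      map_mul' := fun u v => by rw [← map_mul, map_mul p.1, mul_inv]; congr 1; ring }
  have hf : ∀ u, f u = p.2.symm (u * (p.1 u)⁻¹) := fun _ => rfl
  have h1 : ∀ u v, u ≠ 0 → (∀ a x, T (u * a) (v * x) = u * T a x) → f u = v := fun u v hu e => by
    have := hs p (left_ne_zero_of_mul hp0) u v e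
    rw [hf, RingEquiv.symm_apply_eq, eq_comm, eq_mul_inv_iff_mul_eq₀ (by simpa using hu), mul_comm, this]
  have h2 : ∀ u, u ≠ 0 → ∀ a x, T (u * a) (f u * x) = u * T a x := fun u hu a x => by
    rw [hc, hc, Finset.mul_sum]
    refine Finset.sum_congr rfl fun q _ => ?_
    by_cases hq : c q = 0
    · simp [hq]
    have h3 : ∀ w, w ≠ 0 → (q.1 w * q.2 (f w) = w ↔ q.1 w * (p.2.symm.trans q.2) w =
        RingEquiv.refl F w * (p.1.trans (p.2.symm.trans q.2)) w) := fun w hw => by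
      simp only [hf, map_mul, map_inv₀, RingEquiv.trans_apply, RingEquiv.refl_apply]
      rw [← mul_assoc, mul_inv_eq_iff_eq_mul₀ (by simpa using hw)]
    have := (h3 u hu).mpr (h4 _ _ _ _ (fun w hw => by
      obtain ⟨hw0, v, -, e⟩ := hT w hw
      exact (h3 w hw0).mp (by rw [h1 w v hw0 e]; exact hs q hq w v e)) u)
    simp only [map_mul]
    linear_combination (c q * q.1 a * q.2 x) * this
  refine ⟨fun u hu => ⟨f u, by simpa using hu, h2 u hu⟩, fun d hd => ?_⟩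
  obtain ⟨u, rfl⟩ := hp.surj f (fun u hu e => by
    obtain ⟨hu0, v, h5, e'⟩ := hT u hu
    exact h5 (by rw [← h1 u v hu0 e', e])) d
  exact ⟨u, by simpa using hd, h2 u (by simpa using hd)⟩

theorem quad_form (h4 : U4 F N) {B : F →+ F →+ F} {Q : F → F}
    (hQ : ∀ a b, Q (a + b) = Q a + Q b + B a b) (halt : ∀ a, B a a = 0)
    (he : ∀ u, u ^ N = 1 → ∃ e, (∀ a, Q (u * a) = e * Q a) ∧ ∀ a b, B (u * a) (u * b) = e * B a b)
    {x y : F} (h0 : B x y ≠ 0) : ∃ σ τ : F ≃+* F,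
      (∀ a b e, (∀ x y, B (a * x) (b * y) = e * B x y) → σ a * τ b = e) ∧
        ∀ a, Q a = Q 1 * (σ a * τ a) := by
  haveI := fact_two
  obtain ⟨σ, τ, hσ⟩ := exists_support h0
  obtain ⟨c, hc⟩ := exists_sum_aut₂ B
  have h1 : ∀ u a b, B (u * a) (u * b) = σ u * τ u * B a b := fun u a b => by
    rw [hc, hc, Finset.mul_sum]
    refine Finset.sum_congr rfl fun q _ => ?_
    by_cases hq : c q = 0
    · simp [hq]
    have := h4 q.1 q.2 σ τ (fun w hw => by
      obtain ⟨e, -, e2⟩ := he w hw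
      rw [hσ w w e e2]
      exact support_equivariant (fun x y => by rw [← hc, ← hc, e2]) hq) u
    simp only [map_mul]
    linear_combination (c q * q.1 a * q.2 b) * this
  refine ⟨σ, τ, hσ, fun u => ?_⟩
  let D : F →+ F := AddMonoidHom.mk' (fun a => Q (u * a) + σ u * τ u * Q a) fun a b => by
    simp only [mul_add, hQ, h1]
    linear_combination CharTwo.add_self_eq_zero (σ u * τ u * B a b)
  have hD : ∀ a, D a = Q (u * a) + σ u * τ u * Q a := fun _ => rfl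
  by_contra hne
  obtain ⟨ρ, hρ⟩ := exists_support₁ (g := D) (x := 1) (by
    rw [hD, mul_one, Ne, CharTwo.add_eq_zero, mul_comm]; exact hne)
  obtain rfl : σ = τ := h4.u3 σ τ ρ fun w hw => by
    obtain ⟨e, e1, e2⟩ := he w hw
    rw [hσ w w e e2]
    exact (hρ w e fun a => by rw [hD, hD, mul_left_comm u, e1, e1]; ring).symm
  exact h0 (alt_zero (ρ := σ.trans (frobeniusEquiv F 2)) halt (fun a _ x y => by
    rw [h1]; simp [frobenius_def, sq]) x y)

end field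

variable {G : Type*} [Group G] {F : Type*} [Field F]

theorem sec_irr {K A B X : Subgroup G} {π χ : G → F} (h : Sec K A B π χ) (hB : B ≤ X) (hA : X ≤ A)
    (hK : K ≤ normalizer (X : Set G)) : X = B ∨ X = A := by
  refine or_iff_not_imp_left.mpr fun e => le_antisymm hA fun y hy => ?_
  obtain ⟨x, hx, hxB⟩ := SetLike.exists_of_lt (hB.lt_of_ne' e)
  have h0 : π x ≠ 0 := fun e => hxB ((h.ker x (hA hx)).mp e)
  have key : ∀ c, ∃ z ∈ X, π z = c * π x := fun c => by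
    induction (h.span ▸ AddSubgroup.mem_top c : c ∈ AddSubgroup.closure (χ '' K)) using
      AddSubgroup.closure_induction with
    | mem c hc =>
      obtain ⟨k, hk, rfl⟩ := hc
      exact ⟨_, conj_mem hK hk hx, h.conj k hk x (hA hx)⟩
    | zero => exact ⟨1, one_mem _, by rw [h.one, zero_mul]⟩
    | add a b _ _ ha hb =>
      obtain ⟨u, hu, e1⟩ := ha
      obtain ⟨v, hv, e2⟩ := hb
      exact ⟨_, mul_mem hu hv, by rw [h.add u (hA hu) v (hA hv), e1, e2, add_mul]⟩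
    | neg a _ ha =>
      obtain ⟨u, hu, e1⟩ := ha
      exact ⟨_, inv_mem hu, by rw [h.inv (hA hu), e1, neg_mul]⟩
  obtain ⟨z, hz, e⟩ := key (π y / π x)
  simpa only [mul_inv_cancel_left] using mul_mem hz (hB ((h.eq_iff (hA hz) hy).mp (by
    rw [e, div_mul_cancel₀ _ h0])))

theorem sec_pow [Finite G] {K A B : Subgroup G} {π χ : G → F} (h : Sec K A B π χ) {k : G} (hk : k ∈ K) :
    χ k ^ Nat.card K = 1 := by
  rw [← h.χ_pow hk, show k ^ Nat.card K = 1 from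
    congrArg Subtype.val (pow_card_eq_one' (x := (⟨k, hk⟩ : K))), h.χ_one]

theorem sec_roots [Finite G] {K A B : Subgroup G} {π χ : G → F} (h : Sec K A B π χ)
    (hi : ∀ k ∈ K, ∀ l ∈ K, χ k = χ l → k = l) (u : F) (hu : u ^ Nat.card K = 1) : ∃ k ∈ K, χ k = u := by
  classical
  haveI := Fintype.ofFinite K
  have h1 : Finset.univ.image (fun k : K => χ k) = (Polynomial.nthRoots (Nat.card K) (1 : F)).toFinset :=
    Finset.eq_of_subset_of_card_le (fun a ha => by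
      obtain ⟨k, -, rfl⟩ := Finset.mem_image.mp ha
      rw [Multiset.mem_toFinset, Polynomial.mem_nthRoots Nat.card_pos]
      exact sec_pow h k.2) (by
      rw [Finset.card_image_of_injective _ fun k l e => Subtype.ext (hi _ k.2 _ l.2 e), Finset.card_univ,
        ← Nat.card_eq_fintype_card]
      exact (Multiset.toFinset_card_le _).trans (Polynomial.card_nthRoots _ _))
  obtain ⟨k, -, e⟩ := Finset.mem_image.mp (h1.ge (by
    rw [Multiset.mem_toFinset, Polynomial.mem_nthRoots Nat.card_pos]; exact hu))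
  exact ⟨k, k.2, e⟩

theorem card_le_of_pow [Finite F] {a : ℕ} (ha : 1 < a) (h : ∀ x : F, x ^ a = x) : Nat.card F ≤ a := by
  have h3 : Nat.card Fˣ ∣ a - 1 := by
    rw [← IsCyclic.exponent_eq_card, Monoid.exponent_dvd_iff_forall_pow_eq_one]
    intro x
    have := h x
    rw [show a = a - 1 + 1 by omega, pow_succ, mul_eq_right₀ x.ne_zero] at this
    exact Units.ext (by simpa using this)
  have := Nat.le_of_dvd (by omega) h3
  rw [Nat.card_units] at this
  omega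

theorem sec_card_le {E : Type*} [Field E] [Finite E] [CharP E 2] [Finite F] [CharP F 2]
    {K A B A' B' : Subgroup G} {π χ : G → F} {π' χ' : G → E} (h : Sec K A B π χ)
    (h' : Sec K A' B' π' χ') (hi : ∀ k ∈ K, χ' k = 1 → k = 1) : Nat.card F ≤ Nat.card E := by
  haveI := fact_two
  haveI := Fintype.ofFinite E
  obtain ⟨n, -, hn⟩ := FiniteField.card E 2
  rw [← Nat.card_eq_fintype_card] at hn
  refine card_le_of_pow Finite.one_lt_card fun a => ?_
  rw [hn]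
  induction (h.span ▸ AddSubgroup.mem_top a : a ∈ AddSubgroup.closure (χ '' K)) using
    AddSubgroup.closure_induction with
  | mem x hx =>
    obtain ⟨k, hk, rfl⟩ := hx
    rw [show 2 ^ (n : ℕ) = 2 ^ (n : ℕ) - 1 + 1 from (Nat.sub_add_cancel Nat.one_le_two_pow).symm, pow_succ,
      ← h.χ_pow hk, hi _ (pow_mem hk _) (by rw [h'.χ_pow hk, pow_card_pred hn (h'.χ_ne hk)]), h.χ_one,
      one_mul]
  | zero => simp
  | add x y _ _ hx hy => rw [add_pow_char_pow, hx, hy]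
  | neg x _ hx => rw [CharTwo.neg_eq, hx]

/-- `P` is a `2`-group on which `K` acts fixed point freely and irreducibly on the involutions. -/
structure SW (P Z K : Subgroup G) (π χ : G → F) : Prop where
  two : IsPGroup 2 P
  norm : K ≤ normalizer (P : Set G)
  comm : IsMulCommutative K
  mem : ∀ {x}, x ∈ Z ↔ x ∈ P ∧ x * x = 1
  cent : ∀ z ∈ Z, ∀ x ∈ P, Commute z x
  fpf : Fpf P K
  sec : Sec K Z ⊥ π χ
  odd : Odd (Nat.card K)
  big : 2 < Nat.card F
  u3 : U3 F (Nat.card K)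

namespace SW

variable [Finite G] [Finite F] [CharP F 2] {P Z K : Subgroup G} {π χ : G → F} (h : SW P Z K π χ)
include h

theorem le : Z ≤ P := fun _ hx => (h.mem.mp hx).1
theorem surj {A B : Subgroup G} {ρ ψ : G → F} (hS : Sec K A B ρ ψ) (hA : A ≤ P) :
    ∀ c, c ^ Nat.card K = 1 → ∃ k ∈ K, ψ k = c :=
  sec_roots hS fun _ hk _ hl => hS.χ_injOn h.fpf hA hk hl
theorem le_of_ne_bot {X : Subgroup G} (hX : X ≤ P) (hK : K ≤ normalizer (X : Set G)) (h0 : X ≠ ⊥) :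
    Z ≤ X := by
  obtain ⟨u, hu, h2, -⟩ := exists_central (h.two.to_le hX) h0
  refine inf_eq_left.mp ((sec_irr h.sec bot_le inf_le_left
    (norm_inf h.sec.norm hK)).resolve_left fun e => ne_one_of_two h2 ?_)
  exact mem_bot.mp (e ▸ mem_inf.mpr ⟨h.mem.mpr ⟨hX hu, mul_self_of_two h2⟩, hu⟩)
theorem sub {X : Subgroup G} (hX : X ≤ P) (hK : K ≤ normalizer (X : Set G)) (h0 : X ≠ ⊥) :
    SW X Z K π χ :=
  ⟨h.two.to_le hX, hK, h.comm, ⟨fun hx => ⟨h.le_of_ne_bot hX hK h0 hx, (h.mem.mp hx).2⟩,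
    fun hx => h.mem.mpr ⟨hX hx.1, hx.2⟩⟩, fun z hz x hx => h.cent z hz x (hX hx),
    h.fpf.mono hX le_rfl, h.sec, h.odd, h.big, h.u3⟩

theorem exists_sec {A B : Subgroup G} (hBA : B < A) (hA : A ≤ P) (hKA : K ≤ normalizer (A : Set G))
    (hKB : K ≤ normalizer (B : Set G)) (hq : sqg A ≤ B) :
    ∃ X, X ≤ A ∧ ∃ ρ ψ : G → F, Sec K X B ρ ψ := by
  obtain ⟨X, ⟨h1, h2⟩, h3, h4⟩ := PGrp.exists_minimal_subgroup_le
    (fun X => B < X ∧ K ≤ normalizer (X : Set G)) (A := A) ⟨hBA, hKA⟩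
  haveI := h.comm
  obtain ⟨E, _, _, ρ, ψ, hS⟩ := BS.exists_sec h1 h2 hKB ((comm_le_sqg X).trans ((sqg_mono h3).trans hq))
    fun Y hB hY hK => or_iff_not_imp_left.mpr fun e => h4 Y ⟨hB.lt_of_ne' e, hK⟩ hY
  haveI := hS.charP_two fun x hx => hq (sq_mem_sqg (h3 hx))
  have e := le_antisymm (sec_card_le hS h.sec fun k hk => h.sec.χ_inj h.fpf h.le hk)
    (sec_card_le h.sec hS fun k hk => hS.χ_inj h.fpf (h3.trans hA) hk)
  haveI := Fintype.ofFinite F
  exact ⟨X, h3, _, _, hS.congr (FiniteField.ringEquivOfCardEq (by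
    rw [← Nat.card_eq_fintype_card, ← Nat.card_eq_fintype_card, e]))⟩

theorem of_sq {A : Subgroup G} (hA : A ≤ P) (hc : IsMulCommutative A)
    (hK : K ≤ normalizer (A : Set G)) (h0 : sqg A ≠ ⊥) {π₂ χ' : G → F}
    (hS : Sec K (sqg A) (sqg (sqg A)) π₂ χ') : Sec K A (sqg A) (fun a => π₂ (a * a)) χ' where
  le := sqg_le A
  norm := hK
  add x hx y hy := by
    rw [← hS.add _ (sq_mem_sqg hx) _ (sq_mem_sqg hy),
      Commute.mul_mul_mul_comm (PGrp.comm_of_mem hc hy hx)]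
  ker x hx := by
    rw [hS.ker _ (sq_mem_sqg hx)]
    refine ⟨fun e => ?_, sq_mem_sqg⟩
    obtain ⟨b, hb, e⟩ := (mem_sqg (PGrp.isMulCommutative_of_le hc (sqg_le A))).mp e
    have : x * b⁻¹ ∈ Z := h.mem.mpr ⟨hA (mul_mem hx (inv_mem (sqg_le A hb))), by
      rw [Commute.mul_mul_mul_comm (PGrp.comm_of_mem hc (inv_mem (sqg_le A hb)) hx), ← e]; group⟩
    simpa using mul_mem (h.le_of_ne_bot ((sqg_le A).trans hA) hS.norm h0 this) hb
  surj c := by
    obtain ⟨x, hx, rfl⟩ := hS.surj c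
    obtain ⟨a, ha, rfl⟩ := (mem_sqg hc).mp hx
    exact ⟨a, ha, rfl⟩
  conj k hk x hx := by rw [conj_mul, hS.conj k hk _ (sq_mem_sqg hx)]
  span := hS.span

theorem sec_ab {A : Subgroup G} (hA : A ≤ P) (hc : IsMulCommutative A)
    (hK : K ≤ normalizer (A : Set G)) (h0 : A ≠ ⊥) : ∃ π₁, Sec K A (sqg A) π₁ χ := by
  induction hn : Nat.card A using Nat.strong_induction_on generalizing A with | _ n ih => ?_
  by_cases e : sqg A = ⊥
  · rw [e, le_antisymm (fun x hx => h.mem.mpr ⟨hA hx, mem_bot.mp (e ▸ sq_mem_sqg hx)⟩)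
      (h.le_of_ne_bot hA hK h0)]
    exact ⟨π, h.sec⟩
  obtain ⟨π₂, hS⟩ := ih _ (hn ▸ card_lt_of_lt (sqg_lt (h.two.to_le hA) h0)) ((sqg_le A).trans hA)
    (PGrp.isMulCommutative_of_le hc (sqg_le A)) (norm_sqg hK) e rfl
  exact ⟨_, h.of_sq hA hc hK e hS⟩

theorem comm_le {A : Subgroup G} (hA : A ≤ P) (hc : IsMulCommutative A)
    (hK : K ≤ normalizer (A : Set G)) (hP : P ≤ normalizer (A : Set G)) : ⁅A, P⁆ ≤ sqg A := by
  haveI := fact_two
  have h1 := commutator_le_of_le_normalizer hP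
  by_cases h0 : A = ⊥
  · exact h1.trans (h0.le.trans bot_le)
  obtain ⟨π₁, hS⟩ := h.sec_ab hA hc hK h0
  refine sup_eq_right.mp ((sec_irr hS le_sup_right (sup_le h1 (sqg_le A))
    (norm_sup (norm_comm hK h.norm) (norm_sqg hK))).resolve_right fun e => ?_)
  exact (Core.commutator_lt_of_isPGroup (h.two.to_le hA) h.two hP h0).ne
    (eq_of_sup_sqg (h.two.to_le hA) h1 e.ge)

theorem conj_eq {A : Subgroup G} (hA : A ≤ P) (hc : IsMulCommutative A)
    (hP : P ≤ normalizer (A : Set G)) {π₁ χ' : G → F} (hS : Sec K A (sqg A) π₁ χ') {a x : G}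
    (ha : a ∈ A) (hx : x ∈ P) : π₁ (x * a * x⁻¹) = π₁ a := by
  rw [← hS.mul_left (inv_mem (h.comm_le hA hc hS.norm hP (commutator_mem_commutator ha hx))) ha]
  congr 1; rw [commutatorElement_def]; group

theorem exists_T (h4 : U4 F (Nat.card K)) (hp : PR F (Nat.card K)) {A : Subgroup G}
    (hc : IsMulCommutative A) (hK : K ≤ normalizer (A : Set G))
    (h0 : sqg A ≠ ⊥) {π₂ ρ ψ : G → F} (h2 : Sec K (sqg A) (sqg (sqg A)) π₂ χ) (hS : Sec K P A ρ ψ) :
    ∃ T : F →+ F →+ F, (∀ a ∈ A, ∀ x ∈ P, T (π₂ (a * a)) (ρ x) = π₂ ⁅a, x⁆) ∧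
      ∀ {a₀ x₀ : F}, a₀ ≠ 0 → T a₀ x₀ = a₀ → (∀ a, a ≠ 0 → ∀ x, T a x = 0 → x = 0) ∧
        ∀ x a b, a ≠ 0 → b ≠ 0 → T a x = a → T b x = b → a = b := by
  have hA := hS.le
  have hP := hS.A_normB
  have h1 := h.of_sq hA hc hK h0 h2
  have hc' := PGrp.isMulCommutative_of_le hc (sqg_le A)
  have hm : ∀ a ∈ A, ∀ x ∈ P, ⁅a, x⁆ ∈ sqg A := fun a ha x hx =>
    h.comm_le hA hc hK hP (commutator_mem_commutator ha hx)
  obtain ⟨T, hT⟩ := h1.descend₂ hS (fun a x => π₂ ⁅a, x⁆)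
    (fun a ha b hb x hx => by rw [comm_sq_of hc ha hb (hP hx), h2.add _ (hm a ha x hx) _ (hm b hb x hx)])
    (fun a ha x hx => h2.zero (h.comm_le ((sqg_le A).trans hA) hc' h2.norm (norm_sqg hP)
      (commutator_mem_commutator ha hx)))
    (fun a ha x hx y hy => by
      rw [← h.conj_eq ((sqg_le A).trans hA) hc' (norm_sqg hP) h2 (hm a ha y hy) hx,
        ← h2.add _ (hm a ha x hx) _ (conj_mem (norm_sqg hP) hx (hm a ha y hy))]
      congr 1; simp only [commutatorElement_def]; group)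
    fun a ha b hb => by
      rw [commutatorElement_eq_one_iff_mul_comm.mpr (PGrp.comm_of_mem hc ha hb), h2.one]
  have he : ∀ k ∈ K, ∀ a x, T (χ k * a) (ψ k * x) = χ k * T a x := fun k hk a x => by
    obtain ⟨a, ha, rfl⟩ := h1.surj a
    obtain ⟨x, hx, rfl⟩ := hS.surj x
    rw [← h1.conj k hk a ha, ← hS.conj k hk x hx, hT _ (conj_mem hK hk ha) _ (conj_mem h.norm hk hx),
      hT a ha x hx, ← h2.conj k hk _ (hm a ha x hx), conjugate_commutatorElement]
  refine ⟨T, hT, fun ha e => ?_⟩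
  obtain ⟨e1, e2⟩ := ext_T h4 hp (T := T) (fun u hu => by
    obtain ⟨k, hk, rfl⟩ := h.surj h.sec h.le u hu
    exact ⟨h1.χ_ne hk, _, fun e => by rw [hS.χ_inj h.fpf le_rfl hk e, h1.χ_one], he k hk⟩) (e ▸ ha)
  exact count_fix e1 e2 ha e

theorem cent_le (hq : sqg P ≤ Z) (hna : ¬ IsMulCommutative P) {y : G} (hy : y ∈ P)
    (hc : ∀ x ∈ P, Commute y x) : y ∈ Z := by
  let A := P ⊓ centralizer (P : Set G)
  have hA : IsMulCommutative A :=
    PGrp.isMulCommutative_iff_forall.mpr fun x hx y hy => hy.2 x hx.1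
  by_contra hn
  have h0 : sqg A ≠ ⊥ := fun e => hn (h.mem.mpr ⟨hy, mem_bot.mp (e ▸ sq_mem_sqg
    (show y ∈ A from ⟨hy, fun x hx => (hc x hx).symm⟩))⟩)
  have h1 := h.le_of_ne_bot ((sqg_le A).trans inf_le_left)
    (norm_sqg (norm_inf h.norm (norm_cent h.norm))) h0
  refine hna (PGrp.isMulCommutative_iff_forall.mpr fun x hx w hw => ?_)
  obtain ⟨a, ha, e⟩ := (mem_sqg hA).mp (h1 (hq (sq_mem_sqg hx)))
  have h2 : Commute a⁻¹ x := (show Commute x a from ha.2 x hx).symm.inv_left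
  have h3 := h.cent _ (h.mem.mpr ⟨mul_mem hx (inv_mem ha.1), by
    rw [h2.mul_mul_mul_comm, ← e]; group⟩) w hw
  simpa using (h3.mul_left (show Commute w a from ha.2 w hw).symm).eq

end SW

end Cfsg.Lib.Sz2
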