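import Cfsg.Agent.Lib.Sz2.B

/-! Higman's theorem for a large cyclic fixed point free group. -/

set_option autoImplicit false
set_option linter.unusedSectionVars false
set_option linter.style.haveILetI false

namespace Cfsg.Lib.Sz2

open Subgroup Cfsg.Lib.BS Cfsg.Lib.Transfer Cfsg.Lib.Invol Cfsg.Lib.Coprime
open scoped commutatorElement

variable {G : Type*} [Group G] {F : Type*} [Field F] [CharP F 2]

namespace SW

variable [Finite G] [Finite F] {P Z K : Subgroup G} {π χ : G → F} (h : SW P Z K π χ)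
  (h4u : U4 F (Nat.card K)) (hp : PR F (Nat.card K))
include h h4u hp

theorem quad {A C : Subgroup G} {π₁ ρ ψ : G → F} (h1 : Sec K A C π₁ χ) (hS : Sec K P A ρ ψ)
    (hc : ⁅A, P⁆ ≤ C) (hna : ¬ ⁅P, P⁆ ≤ C) : ∃ (ρ ψ : G → F) (θ : F ≃+* F), Sec K P A ρ ψ ∧ θ ≠ 1 ∧
      (∀ x ∈ P, π₁ (x * x) = ρ x * θ (ρ x)) ∧
      ∀ x ∈ P, ∀ y ∈ P, π₁ ⁅x, y⁆ = ρ x * θ (ρ y) + θ (ρ x) * ρ y := by
  have hP := (comm_le_sqg P).trans hS.sqg_le
  obtain ⟨x₁, hx₁, y₁, hy₁, h0⟩ : ∃ x ∈ P, ∃ y ∈ P, π₁ ⁅x, y⁆ ≠ 0 := by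
    by_contra hn
    push Not at hn
    exact hna (commutator_le.mpr fun x hx y hy =>
      (h1.ker _ (hP (commutator_mem_commutator hx hy))).mp (hn x hx y hy))
  obtain ⟨B, hB, he⟩ := h1.exists_B hS hP hc fun b hb x hx =>
    h1.zero (hc (commutator_mem_commutator hb hx))
  obtain ⟨Q, hQ⟩ := hS.descend (fun x => π₁ (x * x)) fun x hx y hy =>
    h1.sq_eq hS hc (mul_mem hx (hS.le hy)) hx (hS.mul_right hx hy)
  obtain ⟨σ, τ, hσ, hq⟩ := quad_form h4u (B := B) (Q := Q) (fun a b => by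
      obtain ⟨x, hx, rfl⟩ := hS.surj a
      obtain ⟨y, hy, rfl⟩ := hS.surj b
      rw [← hS.add x hx y hy, hQ _ (mul_mem hx hy), hQ x hx, hQ y hy, hB x hx y hy]
      exact h1.sq_mul hS.sqg_le hc hx hy)
    (fun a => by
      obtain ⟨x, hx, rfl⟩ := hS.surj a
      rw [hB x hx x hx, commutatorElement_self, h1.one])
    (fun u hu => by
      obtain ⟨k, hk, rfl⟩ := h.surj hS le_rfl u hu
      refine ⟨χ k, fun a => ?_, he k hk⟩
      obtain ⟨x, hx, rfl⟩ := hS.surj a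
      rw [← hS.conj k hk x hx, hQ _ (conj_mem h.norm hk hx), hQ x hx, conj_mul,
        h1.conj k hk _ (hS.sqg_le (sq_mem_sqg hx))])
    (hB _ hx₁ _ hy₁ ▸ h0)
  have h2 : ∀ x ∈ P, π₁ (x * x) = Q 1 * (σ (ρ x) * τ (ρ x)) := fun x hx => by rw [← hq, hQ x hx]
  have h3 : ∀ x ∈ P, ∀ y ∈ P, π₁ ⁅x, y⁆ = Q 1 * (σ (ρ x) * τ (ρ y) + τ (ρ x) * σ (ρ y)) :=
    fun x hx y hy => by
      have := h1.sq_mul hS.sqg_le hc hx hy
      rw [h2 _ (mul_mem hx hy), h2 x hx, h2 y hy, hS.add x hx y hy, map_add, map_add] at this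
      linear_combination -this
  let μ : F →*₀ F :=
    { toFun := fun u => σ u * τ u
      map_zero' := by simp
      map_one' := by simp
      map_mul' := fun u v => by simp only [map_mul]; ring }
  obtain ⟨l, e⟩ := hp.surj μ (fun u hu e => by
    obtain ⟨k, hk, rfl⟩ := h.surj hS le_rfl u hu
    rw [h.sec.χ_inj h.fpf h.le hk ((hσ _ _ _ (he k hk)).symm.trans e), hS.χ_one]) (Q 1)
  have e : σ l * τ l = Q 1 := e
  have hl : l ≠ 0 := fun e' => h0 (by rw [h3 _ hx₁ _ hy₁, ← e, e']; simp)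
  refine ⟨_, _, τ * σ⁻¹, (hS.smul hl).congr σ, fun e => h0 ?_, fun x hx => ?_,
    fun x hx y hy => ?_⟩
  · rw [h3 _ hx₁ _ hy₁, mul_inv_eq_one.mp e, mul_comm (σ _), CharTwo.add_self_eq_zero, mul_zero]
  · simp only [h2 x hx, ← e, RingAut.mul_apply, RingAut.inv_apply, Function.comp, map_mul,
      RingEquiv.symm_apply_apply]; ring
  · simp only [h3 x hx y hy, ← e, RingAut.mul_apply, RingAut.inv_apply, Function.comp, map_mul,
      RingEquiv.symm_apply_apply]; ring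

theorem case_b {ρ ψ : G → F} (hS : Sec K P (sqg P) ρ ψ) (hc : IsMulCommutative (sqg P))
    (h0 : sqg (sqg P) ≠ ⊥) : IsMulCommutative P := by
  set A := sqg P with hAdef
  have hA := hS.le
  have hK := hS.normB
  obtain ⟨π₂, h2⟩ := h.sec_ab ((sqg_le A).trans hA) (PGrp.isMulCommutative_of_le hc (sqg_le A))
    (norm_sqg hK) h0
  have h1 := h.of_sq hA hc hK h0 h2
  have hAP := h.comm_le hA hc hK hS.A_normB
  by_cases hP : ⁅P, P⁆ ≤ sqg A
  · by_contra hna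
    have hD : ⁅P, P⁆ ≠ ⊥ := fun e => hna (PGrp.isMulCommutative_iff_forall.mpr fun x hx y hy =>
      (commutator_eq_bot_iff_le_centralizer.mp e hy x hx))
    have hDP : ⁅P, P⁆ ≤ P := (comm_le_sqg P).trans hA
    have hDc := PGrp.isMulCommutative_of_le hc (comm_le_sqg P)
    obtain ⟨π₃, h3⟩ := h.sec_ab hDP hDc (norm_comm h.norm h.norm) hD
    have hDc' := h.comm_le hDP hDc h3.norm (norm_comm le_normalizer le_normalizer)
    obtain ⟨C, hC, he⟩ := h3.exists_B hS le_rfl hDc' fun b hb x hx => by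
      induction hb using closure_induction with
      | mem b hb =>
        obtain ⟨y, hy, rfl⟩ := hb
        rw [h3.comm_mul le_rfl hDc' hy hy hx, CharTwo.add_self_eq_zero]
      | one => simp [h3.one]
      | mul a b ha hb e1 e2 => rw [h3.comm_mul le_rfl hDc' (hA ha) (hA hb) hx, e1, e2, add_zero]
      | inv a ha e =>
        have := h3.comm_mul le_rfl hDc' (hA ha) (inv_mem (hA ha)) hx
        simpa [h3.one, e] using this.symm
    obtain ⟨s, hs⟩ := hS.descend_add (fun x => π₂ (x * x * (x * x))) (fun x hx y hy => by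
      have := h1.sq_mul le_rfl hAP hx hy
      rwa [h1.zero (hP (commutator_mem_commutator hx hy)), add_zero] at this)
      fun y hy => h1.zero (sq_mem_sqg hy)
    obtain ⟨x, hx, e⟩ : ∃ x ∈ P, x * x ∉ sqg A := by
      by_contra hn
      push Not at hn
      exact (sqg_lt (h.two.to_le hA) fun e => h0 (eq_bot_iff.mpr ((sqg_le A).trans e.le))).not_ge
        (sqg_le_iff.mpr hn)
    obtain ⟨σ, hσ⟩ := exists_support₁ (g := s) (x := ρ x) fun e' =>
      e ((h1.ker _ (sq_mem_sqg hx)).mp (hs x hx ▸ e'))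
    have h4 := h.u3.alt_zero (C := C) (ρ := σ) (fun a => by
      obtain ⟨y, hy, rfl⟩ := hS.surj a
      rw [hC y hy y hy, commutatorElement_self, h3.one]) fun a ha => by
        obtain ⟨k, hk, rfl⟩ := h.surj hS le_rfl a ha
        rw [hσ _ (χ k) fun a => by
          obtain ⟨y, hy, rfl⟩ := hS.surj a
          rw [← hS.conj k hk y hy, hs _ (conj_mem h.norm hk hy), hs y hy, conj_mul]
          exact h1.conj k hk _ (sq_mem_sqg hy)]
        exact he k hk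
    exact h3.ne (le_antisymm h3.le (commutator_le.mpr fun x hx y hy =>
      (h3.ker _ (commutator_mem_commutator hx hy)).mp (hC x hx y hy ▸ h4 _ _)))
  obtain ⟨ρ, ψ, θ, hS, hθ, e1, e2⟩ := h.quad h4u hp h1 hS hAP hP
  obtain ⟨T, hT, -⟩ := h.exists_T h4u hp hc hK h0 h2 hS
  refine (not_identity h.big (T := T) hθ fun a b => ?_).elim
  obtain ⟨x, hx, rfl⟩ := hS.surj a
  obtain ⟨y, hy, rfl⟩ := hS.surj b
  have h3 := comm_mem_sqg hx hy
  have h4 := hAP (commutator_mem_commutator h3 hx)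
  rw [← e1 x hx, ← e2 x hx y hy, hT _ (sq_mem_sqg hx) y hy, hT _ h3 x hx,
    ← h2.add _ (hAP (commutator_mem_commutator (sq_mem_sqg hx) hy)) _ h4, show ⁅x * x, y⁆ =
      ⁅⁅x, y⁆, x⁆⁻¹ * (⁅x, y⁆ * ⁅x, y⁆) by simp [commutatorElement_def, mul_assoc]]
  simpa only [inv_inv] using h2.conj_A (inv_mem h4) (sq_mem_sqg h3)

theorem case_a {A : Subgroup G} {ρ ψ : G → F} (hS : Sec K P A ρ ψ) (hc : IsMulCommutative A)
    (hq : sqg P ≤ sqg A) (h0 : sqg (sqg A) ≠ ⊥) : False := by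
  have hA := hS.le
  have hK := hS.normB
  have h0' : sqg A ≠ ⊥ := fun e => h0 (eq_bot_iff.mpr ((sqg_le _).trans e.le))
  have hc' := PGrp.isMulCommutative_of_le hc (sqg_le A)
  obtain ⟨π₂, h2⟩ := h.sec_ab ((sqg_le A).trans hA) hc' (norm_sqg hK) h0'
  have h1 := h.of_sq hA hc hK h0' h2
  have hm : ∀ a ∈ A, ∀ x ∈ P, ⁅a, x⁆ ∈ sqg A := fun a ha x hx =>
    h.comm_le hA hc hK hS.A_normB (commutator_mem_commutator ha hx)
  obtain ⟨T, hT, hF⟩ := h.exists_T h4u hp hc hK h0' h2 hS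
  have h3 : ∀ a x, T (T a x) x = T a x := fun a x => by
    obtain ⟨a, ha, rfl⟩ := h1.surj a
    obtain ⟨x, hx, rfl⟩ := hS.surj x
    obtain ⟨b, hb, e⟩ := (mem_sqg hc).mp (hm a ha x hx)
    have e1 := comm_comm_of_sq (PGrp.comm_of_mem hc ha (sqg_le A (hq (sq_mem_sqg hx))))
    rw [hT a ha x hx, ← e, hT b hb x hx, h2.eq_iff (hm b hb x hx) (sq_mem_sqg hb)]
    rw [← e, comm_sq_of hc hb hb (hS.A_normB hx)] at e1
    refine h.le_of_ne_bot ((sqg_le _).trans ((sqg_le _).trans hA)) h2.normB h0 (h.mem.mpr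
      ⟨hA (sqg_le A (mul_mem (inv_mem (hm b hb x hx)) (sq_mem_sqg hb))), ?_⟩)
    rw [Commute.mul_mul_mul_comm (PGrp.comm_of_mem hc' (sq_mem_sqg hb) (inv_mem (hm b hb x hx))), ← e1]
    group
  have h4 : ∀ a x, T a x = 0 := fun a x => by
    by_contra hn
    obtain ⟨h5, h6⟩ := hF hn (h3 a x)
    have h7 : ∀ b, b ≠ 0 → T b x = T a x := fun b hb => h6 x _ _
      (fun e => hn (by rw [h5 b hb x e, map_zero])) hn (h3 b x) (h3 a x)
    obtain ⟨c, h8, h9⟩ := exists_ne_ne h.big (0 : F) 1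
    have := h7 (c + 1) fun e => h9 (CharTwo.add_eq_zero.mp e)
    rw [map_add, AddMonoidHom.add_apply, h7 c h8, h7 1 one_ne_zero, CharTwo.add_self_eq_zero] at this
    exact hn this.symm
  obtain ⟨u, hu, e⟩ := hS.surj 1
  have hn := hS.A_normB hu
  let I : Subgroup G :=
    { carrier := {g | ∃ a ∈ A, g = a * (u * a * u⁻¹)}
      one_mem' := ⟨1, one_mem _, by simp⟩
      mul_mem' := by
        rintro _ _ ⟨a, ha, rfl⟩ ⟨b, hb, rfl⟩
        exact ⟨_, mul_mem ha hb, by rw [← conj_mul, Commute.mul_mul_mul_comm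
          (PGrp.comm_of_mem hc (conj_mem_of_mem_normalizer hn ha) hb)]⟩
      inv_mem' := by
        rintro _ ⟨a, ha, rfl⟩
        exact ⟨_, inv_mem ha, by
          rw [PGrp.comm_of_mem hc ha (conj_mem_of_mem_normalizer hn ha)]; group⟩ }
  have h5 : ∀ a, a * (u * a * u⁻¹) = a * a * ⁅a⁻¹, u⁆ := fun a => by rw [commutatorElement_def]; group
  have h6 : I = sqg A := eq_of_sup_sqg (h.two.to_le ((sqg_le A).trans hA)) (by
      rintro _ ⟨a, ha, rfl⟩
      exact h5 a ▸ mul_mem (sq_mem_sqg ha) (hm _ (inv_mem ha) u hu))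
    (sqg_le_iff.mpr fun a ha => by
      rw [← mul_inv_cancel_right (a * a) ⁅a⁻¹, u⁆, ← h5]
      exact mul_mem (mem_sup_left ⟨a, ha, rfl⟩) (mem_sup_right (inv_mem
        ((h2.ker _ (hm _ (inv_mem ha) u hu)).mp (hT _ (inv_mem ha) u hu ▸ h4 _ _)))))
  obtain ⟨a, ha, e1⟩ := h6.ge (inv_mem (hq (sq_mem_sqg hu)))
  have h7 := h.le_of_ne_bot hA hK (fun e => h0' (eq_bot_iff.mpr ((sqg_le _).trans e.le)))
    (h.mem.mpr ⟨mul_mem (hA ha) hu, by
      rw [← inv_mul_cancel (u * u), e1]; group⟩)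
  have := hS.zero h7
  rw [hS.mul_left ha hu, e] at this
  exact one_ne_zero this

theorem case_two {A B₁ B₂ : Subgroup G} {ρ₁ ψ₁ ρ₂ ψ₂ : G → F} (hc : IsMulCommutative A)
    (hq : sqg P ≤ A) (h0 : sqg A ≠ ⊥) (s1 : Sec K B₁ A ρ₁ ψ₁) (s2 : Sec K B₂ A ρ₂ ψ₂) (l1 : B₁ ≤ P)
    (l2 : B₂ ≤ P) (q1 : sqg B₁ ≤ Z) (q2 : sqg B₂ ≤ Z) {x y : G} (hx : x ∈ B₁) (hy : y ∈ B₂) :
    ⁅y, x⁆ ∈ Z := by
  have hA := s1.le.trans l1
  have hK := s1.normB
  have h0' : A ≠ ⊥ := fun e => h0 (eq_bot_iff.mpr ((sqg_le _).trans e.le))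
  obtain ⟨π₂, h2⟩ := h.sec_ab ((sqg_le A).trans hA) (PGrp.isMulCommutative_of_le hc (sqg_le A))
    (norm_sqg hK) h0
  have h1 := h.of_sq hA hc hK h0 h2
  have hAP := h.comm_le hA hc hK (norm_of_sqg_le hq hA)
  have hP := (comm_le_sqg P).trans hq
  have key : ∀ {B : Subgroup G} {ρ ψ : G → F}, Sec K B A ρ ψ → B ≤ P → sqg B ≤ Z →
      ∃ T : F →+ F →+ F, (∀ x ∈ B, ∀ y ∈ P, T (π₂ (⁅y, x⁆ * ⁅y, x⁆)) (ρ x) = π₂ (⁅y, x⁆ * ⁅y, x⁆)) ∧
      ∀ {a₀ x₀ : F}, a₀ ≠ 0 → T a₀ x₀ = a₀ → (∀ a, a ≠ 0 → ∀ x, T a x = 0 → x = 0) ∧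
        ∀ x a b, a ≠ 0 → b ≠ 0 → T a x = a → T b x = b → a = b := fun s l q => by
    obtain ⟨T, hT, hF⟩ := (h.sub l s.norm fun e => h0' (eq_bot_iff.mpr (s.le.trans e.le))).exists_T
      h4u hp hc hK h0 h2 s
    exact ⟨T, fun x hx y hy => by
      rw [hT _ (hP (commutator_mem_commutator hy (l hx))) x hx,
        comm_comm_of_sq (h.cent _ (q (sq_mem_sqg hx)) y hy).symm], hF⟩
  obtain ⟨T₁, e1, f1⟩ := key s1 l1 q1
  obtain ⟨T₂, e2, f2⟩ := key s2 l2 q2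
  let b : G → F := fun x => π₂ (⁅x, y⁆ * ⁅x, y⁆)
  have hb : ∀ x ∈ B₁, T₁ (b x) (ρ₁ x) = b x ∧ T₂ (b x) (ρ₂ y) = b x := fun x hx =>
    ⟨by simpa only [h1.comm_symm hP (l2 hy) (l1 hx)] using e1 x hx y (l2 hy), e2 y hy x (l1 hx)⟩
  have h3 : b x = 0 := by
    by_contra hn
    have h4 : ∀ z ∈ B₁, b z ≠ 0 → ρ₁ z = ρ₁ x := fun z hz e => by
      have := (f2 hn (hb x hx).2).2 _ _ _ e hn (hb z hz).2 (hb x hx).2
      refine CharTwo.add_eq_zero.mp ((f1 hn (hb x hx).1).1 _ hn _ ?_)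
      rw [map_add, (hb x hx).1, ← this, (hb z hz).1, CharTwo.add_self_eq_zero]
    obtain ⟨c, h5, h6⟩ := exists_ne_ne h.big 0 (ρ₁ x)
    obtain ⟨z, hz, rfl⟩ := s1.surj c
    have h7 : b z = 0 := by_contra fun e => h6 (h4 z hz e)
    have := h4 _ (mul_mem hz hx) (by
      rwa [show b (z * x) = b z + b x from h1.comm_mul hP hAP (l1 hz) (l1 hx) (l2 hy), h7, zero_add])
    rw [s1.add z hz x hx, add_eq_right] at this
    exact h5 this
  have h4 := hP (commutator_mem_commutator (l1 hx) (l2 hy))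
  rw [← commutatorElement_inv, inv_mem_iff]
  exact q1 (sqg_mono s1.le ((h1.ker _ h4).mp h3))

omit h4u hp in
theorem comm_sqg (IH : ¬ IsMulCommutative (sqg P) → sqg (sqg P) ≤ Z) : IsMulCommutative (sqg P) := by
  haveI := fact_two
  by_contra hna
  have h0 : sqg P ≠ ⊥ := fun e => hna (e ▸ inferInstance)
  have h1 := h.sub (sqg_le P) (norm_sqg h.norm) h0
  haveI : (Z.subgroupOf P).Normal := PGrp.normal_of_le_center fun z hz => mem_center_iff.mpr
    fun g => Subtype.ext (h.cent z hz g g.2).symm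
  haveI : ((sqg P).subgroupOf P).Normal := (normal_subgroupOf_iff_le_normalizer (sqg_le P)).mpr
    (norm_sqg le_normalizer)
  obtain ⟨y, hy, hyZ, -, hc⟩ := PGrp.exists_mem_central_mod h.two (Z.subgroupOf P)
    ((sqg P).subgroupOf P) fun e => hna (PGrp.isMulCommutative_iff_forall.mpr fun x hx y hy =>
      h1.cent x (e (show (⟨x, sqg_le P hx⟩ : P) ∈ _ from hx)) y hy)
  refine hyZ (h1.cent_le (IH hna) hna hy fun x hx => (mem_cent.mp ((sqg_le_iff
    (B := centralizer {(y : G)})).mpr (fun g hg => mem_cent.mpr ?_) hx)).symm)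
  have h2 : ⁅(y : G), g⁆ ∈ Z := hc ⟨g, hg⟩
  rw [← commutatorElement_eq_one_iff_commute, ← commutatorElement_inv, inv_eq_one, ← sq,
    PGrp.commutator_pow_right (h.cent _ h2 g hg), sq, (h.mem.mp h2).2]

/-- Higman's theorem, main part. -/
theorem sqg_le_Z (hna : ¬ IsMulCommutative P) : sqg P ≤ Z := by
  induction hn : Nat.card P using Nat.strong_induction_on generalizing P with | _ n ih => ?_
  have IH : ∀ X, X < P → K ≤ normalizer (X : Set G) → ¬ IsMulCommutative X → sqg X ≤ Z :=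
    fun X hX hK hc => ih _ (hn ▸ card_lt_of_lt hX) (h.sub hX.le hK fun e => hc (e ▸ inferInstance)) hc rfl
  have h0 : P ≠ ⊥ := fun e => hna (e ▸ inferInstance)
  by_contra hq
  have hc := h.comm_sqg (IH _ (sqg_lt h.two h0) (norm_sqg h.norm))
  have hq' : sqg (sqg P) ≠ ⊥ := fun e => hq fun x hx =>
    h.mem.mpr ⟨sqg_le P hx, mem_bot.mp (e ▸ sq_mem_sqg hx)⟩
  obtain ⟨A, ⟨hA, hK, hAc⟩, h1, h2⟩ := PGrp.exists_maximal_subgroup_ge
    (fun X => X ≤ P ∧ K ≤ normalizer (X : Set G) ∧ IsMulCommutative X) ⟨sqg_le P, norm_sqg h.norm, hc⟩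
  have hA0 : sqg A ≠ ⊥ := fun e => hq' (eq_bot_iff.mpr ((sqg_mono h1).trans e.le))
  have h3 : ∀ X, A < X → X < P → K ≤ normalizer (X : Set G) → sqg X ≤ Z := fun X h3 h4 h5 =>
    IH X h4 h5 fun e => h3.ne' (h2 X ⟨h4.le, h5, e⟩ h3.le)
  obtain ⟨B, hB, ρ, ψ, hS⟩ := h.exists_sec (hA.lt_of_ne fun e => hna (e ▸ hAc)) le_rfl h.norm hK h1
  rcases hB.eq_or_lt with rfl | hB'
  · obtain ⟨π₁, s1⟩ := h.sec_ab hA hAc hK fun e => hA0 (eq_bot_iff.mpr ((sqg_le _).trans e.le))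
    rcases sec_irr s1 (sqg_mono hA) h1 (norm_sqg h.norm) with e | rfl
    · exact h.case_a h4u hp hS hAc e.le (e ▸ hq')
    · exact hna (h.case_b h4u hp hS hAc hq')
  obtain ⟨W, w1, w2, w3, w4⟩ := BG1.maschke_quo Nat.prime_two h.odd.not_two_dvd_nat hK
    (norm_of_sqg_le h1 hA) hA ((comm_le_sqg P).trans h1) (fun x hx => by
      rw [sq]; exact h1 (sq_mem_sqg hx)) hB h.norm hS.norm
  have w5 : W ≤ P := w2 ▸ le_sup_right
  have w6 : A < W := w1.lt_of_ne fun e => hB'.ne (by rw [← w2, ← e, sup_eq_left.mpr hS.le])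
  have w7 : W < P := w5.lt_of_ne fun e => hS.ne (le_antisymm hS.le (by rwa [e, inf_eq_left.mpr hB] at w3))
  have q1 := h3 B (hS.le.lt_of_ne hS.ne) hB' hS.norm
  have q2 := h3 W w6 w7 w4
  have hAP := h.comm_le hA hAc hK (norm_of_sqg_le h1 hA)
  have hKZ := h.sec.norm
  let Y : Subgroup G :=
    { carrier := {y | y ∈ W ∧ ∀ x ∈ B, ⁅y, x⁆ ∈ Z}
      one_mem' := ⟨one_mem _, fun x _ => by simp [one_mem]⟩
      mul_mem' := fun {a b} ha hb => ⟨mul_mem ha.1 hb.1, fun x hx => by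
        rw [PGrp.commutator_mul_left (h.cent _ (hb.2 x hx) a (w5 ha.1)) (h.cent _ (hb.2 x hx) x (hB hx))]
        exact mul_mem (ha.2 x hx) (hb.2 x hx)⟩
      inv_mem' := fun {a} ha => ⟨inv_mem ha.1, fun x hx => by
        have := h.cent _ (inv_mem (ha.2 x hx)) a (w5 ha.1)
        rw [show ⁅a⁻¹, x⁆ = a⁻¹ * (⁅a, x⁆⁻¹ * a) by simp [commutatorElement_def, mul_assoc], this.eq,
          inv_mul_cancel_left]
        exact inv_mem (ha.2 x hx)⟩ }
  have hAY : A ≤ Y := fun a ha => ⟨w1 ha, fun x hx =>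
    q2 (sqg_mono w1 (hAP (commutator_mem_commutator ha (hB hx))))⟩
  have hKY : K ≤ normalizer (Y : Set G) := fun k hk => mem_norm_of fun y hy =>
    ⟨conj_mem w4 hk hy.1, fun x hx => by
      have := conj_mem hKZ hk (hy.2 _ (conj_mem' hS.norm hk hx))
      rwa [conjugate_commutatorElement, show k * (k⁻¹ * x * k) * k⁻¹ = x by group] at this⟩
  have hY : W ≤ Y := by
    obtain ⟨V, v1, v2, v3, v4⟩ := BG1.maschke_quo (V := W) (U := Y) Nat.prime_two h.odd.not_two_dvd_nat hK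
      (w5.trans (norm_of_sqg_le h1 hA)) w1 (((comm_le_sqg W).trans (sqg_mono w5)).trans h1) (fun x hx => by
        rw [sq]; exact h1 (sq_mem_sqg (w5 hx))) (fun _ hy => hy.1) w4 hKY
    have v5 : V ≤ W := v2 ▸ le_sup_right
    rcases v1.eq_or_lt with rfl | v6
    · rw [← v2]; exact sup_le le_rfl hAY
    obtain ⟨C, hC, ρ₂, ψ₂, s2⟩ := h.exists_sec v6 (v5.trans w5) v4 hK ((sqg_mono (v5.trans w5)).trans h1)
    have hCY : C ≤ Y := fun y hy => ⟨v5 (hC hy), fun x hx =>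
      h.case_two h4u hp hAc h1 hA0 hS s2 hB ((hC.trans v5).trans w5) q1
        ((sqg_mono (hC.trans v5)).trans q2) hx hy⟩
    exact absurd (le_antisymm s2.le ((le_inf hCY hC).trans v3)) s2.ne
  refine hq (sqg_le_iff.mpr fun g hg => ?_)
  obtain ⟨x, hx, y, hy, rfl⟩ := (mem_sup_iff_of_le_normalizer
    (w5.trans (norm_of_sqg_le (h1.trans hS.le) hB))).mp (w2.ge hg)
  have := (hY hy).2 _ (inv_mem hx)
  rw [show x * y * (x * y) = x * x * ⁅y, x⁻¹⁆⁻¹ * (y * y) by rw [commutatorElement_def]; group]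
  exact mul_mem (mul_mem (q1 (sq_mem_sqg hx)) (inv_mem this)) (q2 (sq_mem_sqg hy))

end SW

end Cfsg.Lib.Sz2
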