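import Cfsg.Agent.Lib.Sz2.C
import Cfsg.Agent.Lib.Coprime.Neumann
import Cfsg.Agent.S3360

/-! `2`-groups with an odd order group of automorphisms transitive on the involutions. -/

set_option autoImplicit false
set_option linter.unusedSectionVars false
set_option linter.style.haveILetI false

namespace Cfsg.Lib.Sz2

open Subgroup Cfsg.Lib.BS Cfsg.Lib.Transfer Cfsg.Lib.Invol Cfsg.Lib.Coprime
open scoped commutatorElement

variable {G : Type*} [Group G]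

theorem surj_of_span {F : Type*} [Field F] {K A : Subgroup G} {π χ : G → F}
    (hK : K ≤ normalizer (A : Set G)) (hadd : ∀ x ∈ A, ∀ y ∈ A, π (x * y) = π x + π y)
    (hconj : ∀ k ∈ K, ∀ x ∈ A, π (k * x * k⁻¹) = χ k * π x)
    (hspan : AddSubgroup.closure (χ '' K) = ⊤) {x : G} (hx : x ∈ A) (h0 : π x ≠ 0) (c : F) :
    ∃ z ∈ A, π z = c := by
  have h1 : π 1 = 0 := by simpa using hadd 1 (one_mem _) 1 (one_mem _)
  have key : ∀ c, ∃ z ∈ A, π z = c * π x := fun c => by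
    induction (hspan ▸ AddSubgroup.mem_top c : c ∈ AddSubgroup.closure (χ '' K)) using
      AddSubgroup.closure_induction with
    | mem c hc =>
      obtain ⟨k, hk, rfl⟩ := hc
      exact ⟨_, conj_mem hK hk hx, hconj k hk x hx⟩
    | zero => exact ⟨1, one_mem _, by rw [h1, zero_mul]⟩
    | add a b _ _ ha hb =>
      obtain ⟨u, hu, e1⟩ := ha
      obtain ⟨v, hv, e2⟩ := hb
      exact ⟨_, mul_mem hu hv, by rw [hadd u hu v hv, e1, e2, add_mul]⟩
    | neg a _ ha =>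
      obtain ⟨u, hu, e1⟩ := ha
      refine ⟨_, inv_mem hu, ?_⟩
      have := hadd u hu _ (inv_mem hu)
      rw [mul_inv_cancel, h1, e1] at this
      linear_combination -this
  simpa only [div_mul_cancel₀ _ h0] using key (c / π x)

theorem SW.class_two [Finite G] {F : Type*} [Field F] [Finite F] [CharP F 2] {P Z K : Subgroup G}
    {π χ : G → F} (h : SW P Z K π χ) (hc : ∀ a ∈ P, ∀ x ∈ P, ∀ y ∈ P, Commute ⁅x, y⁆ a)
    (hna : ¬ IsMulCommutative P) : sqg P ≤ Z := by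
  classical
  haveI := fact_two
  let A := P ⊓ centralizer (P : Set G)
  have hA : IsMulCommutative A :=
    PGrp.isMulCommutative_iff_forall.mpr fun x hx y hy => hy.2 x hx.1
  have hKA : K ≤ normalizer (A : Set G) := norm_inf h.norm (norm_cent h.norm)
  have hm : ∀ x ∈ P, ∀ y ∈ P, ⁅x, y⁆ ∈ A := fun x hx y hy =>
    ⟨sqg_le P (comm_mem_sqg hx hy), fun a ha => (hc a ha x hx y hy).symm⟩
  have hpw : ∀ x ∈ P, ∀ k, x ^ k ∈ A ↔ ∀ y ∈ P, ⁅x, y⁆ ^ k = 1 := fun x hx k => by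
    refine ⟨fun e y hy => ?_, fun e => ⟨pow_mem hx k, fun y hy => ?_⟩⟩
    · rw [← PGrp.commutator_pow_left (hc x hx x hx y hy), commutatorElement_eq_one_iff_mul_comm]
      exact (e.2 y hy).symm
    · rw [eq_comm, ← commutatorElement_eq_one_iff_mul_comm, PGrp.commutator_pow_left (hc x hx x hx y hy)]
      exact e y hy
  by_cases h0 : sqg A = ⊥
  · have hZ : A ≤ Z := fun a ha => h.mem.mpr ⟨ha.1, mem_bot.mp (h0 ▸ sq_mem_sqg ha)⟩
    refine sqg_le_iff.mpr fun x hx => hZ ?_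
    rw [← sq, hpw x hx]
    exact fun y hy => by rw [sq]; exact (h.mem.mp (hZ (hm x hx y hy))).2
  exfalso
  have hZ := h.le_of_ne_bot ((sqg_le A).trans inf_le_left) (norm_sqg hKA) h0
  obtain ⟨π₁, h1⟩ := h.sec_ab inf_le_left hA hKA fun e => h0 (eq_bot_iff.mpr ((sqg_le _).trans e.le))
  have hex : ∃ e, ∀ x ∈ P, x ^ 2 ^ e ∈ A := by
    obtain ⟨n, hn⟩ := IsPGroup.iff_card.mp h.two
    exact ⟨n, fun x hx => by
      rw [← hn, show x ^ Nat.card P = 1 from congrArg Subtype.val (pow_card_eq_one' (x := (⟨x, hx⟩ : P)))]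
      exact one_mem _⟩
  obtain ⟨e, he⟩ := Nat.exists_eq_add_one_of_ne_zero (n := Nat.find hex) fun e => hna
    (PGrp.isMulCommutative_iff_forall.mpr fun x hx y hy => by
      have := Nat.find_spec hex y hy
      rw [e, pow_zero, pow_one] at this
      exact this.2 x hx)
  have e1 : ∀ x ∈ P, x ^ 2 ^ (e + 1) ∈ A := he ▸ Nat.find_spec hex
  obtain ⟨x₀, hx₀, e0⟩ : ∃ x ∈ P, x ^ 2 ^ e ∉ A := by
    simpa using Nat.find_min hex (m := e) (by omega)
  have hz : ∀ x ∈ P, ∀ y ∈ P, ⁅x, y⁆ ^ 2 ^ e ∈ Z := fun x hx y hy =>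
    h.mem.mpr ⟨pow_mem (hm x hx y hy).1 _, by
      rw [← pow_add, ← two_mul, ← pow_succ']; exact (hpw x hx _).mp (e1 x hx) y hy⟩
  have hmul : ∀ x ∈ P, ∀ y ∈ P, ∀ w ∈ P, ⁅x * y, w⁆ ^ 2 ^ e = ⁅x, w⁆ ^ 2 ^ e * ⁅y, w⁆ ^ 2 ^ e :=
    fun x hx y hy w hw => by
      rw [PGrp.commutator_mul_left (hc x hx y hy w hw) (hc w hw y hy w hw),
        (hc _ (hm y hy w hw).1 x hx w hw).mul_pow]
  let M : Subgroup G :=
    { carrier := {x | x ∈ P ∧ ∀ y ∈ P, ⁅x, y⁆ ^ 2 ^ e = 1}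
      one_mem' := ⟨one_mem _, fun y _ => by simp⟩
      mul_mem' := fun {a b} ha hb => ⟨mul_mem ha.1 hb.1, fun y hy => by
        rw [hmul a ha.1 b hb.1 y hy, ha.2 y hy, hb.2 y hy, one_mul]⟩
      inv_mem' := fun {a} ha => ⟨inv_mem ha.1, fun y hy => by
        have := hmul a ha.1 _ (inv_mem ha.1) y hy
        rw [ha.2 y hy, one_mul] at this
        simpa using this.symm⟩ }
  have hadd : ∀ x ∈ P, ∀ y ∈ P, π₁ ((x * y) ^ 2 ^ (e + 1)) = π₁ (x ^ 2 ^ (e + 1)) + π₁ (y ^ 2 ^ (e + 1)) :=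
    fun x hx y hy => by
      rw [PGrp.mul_pow_eq_of_commute (hc x hx y hy x hx) (hc y hy y hy x hx),
        h1.mul_right (mul_mem (e1 x hx) (e1 y hy)), h1.add _ (e1 x hx) _ (e1 y hy)]
      rw [Nat.choose_two_right, pow_succ', mul_assoc, Nat.mul_div_cancel_left _ two_pos, pow_mul]
      exact pow_mem (hZ (hz y hy x hx)) _
  have hker : ∀ x ∈ P, π₁ (x ^ 2 ^ (e + 1)) = 0 ↔ x ∈ M := fun x hx => by
    rw [h1.ker _ (e1 x hx), mem_sqg hA]
    refine ⟨fun ⟨a, ha, e2⟩ => ⟨hx, (hpw x hx _).mp ?_⟩, fun hM =>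
      ⟨_, (hpw x hx _).mpr hM.2, by rw [← pow_add, ← two_mul, ← pow_succ']⟩⟩
    have h2 : Commute a⁻¹ (x ^ 2 ^ e) := (show Commute _ a from ha.2 _ (pow_mem hx _)).symm.inv_left
    simpa using mul_mem (sqg_le A (hZ (h.mem.mpr ⟨mul_mem (pow_mem hx (2 ^ e)) (inv_mem ha.1), by
      rw [h2.mul_mul_mul_comm, ← pow_add, ← two_mul, ← pow_succ', ← e2]; group⟩))) ha
  have hconj : ∀ k ∈ K, ∀ x ∈ P, π₁ ((k * x * k⁻¹) ^ 2 ^ (e + 1)) = χ k * π₁ (x ^ 2 ^ (e + 1)) :=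
    fun k hk x hx => by rw [conj_pow, h1.conj k hk _ (e1 x hx)]
  have hS : Sec K P M (fun x => π₁ (x ^ 2 ^ (e + 1))) χ :=
    ⟨fun _ hx => hx.1, h.norm, hadd, hker, surj_of_span h.norm hadd hconj h1.span hx₀ fun e2 =>
      e0 ((hpw _ hx₀ _).mpr ((hker _ hx₀).mp e2).2), hconj, h1.span⟩
  have hsy : ∀ x ∈ P, ∀ y ∈ P, π (⁅x, y⁆ ^ 2 ^ e) = π (⁅y, x⁆ ^ 2 ^ e) := fun x hx y hy => by
    rw [← commutatorElement_inv, inv_pow, h.sec.inv' (hz y hy x hx)]
  have ha1 : ∀ x ∈ P, ∀ y ∈ P, ∀ w ∈ P,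
      π (⁅x * y, w⁆ ^ 2 ^ e) = π (⁅x, w⁆ ^ 2 ^ e) + π (⁅y, w⁆ ^ 2 ^ e) := fun x hx y hy w hw => by
    rw [hmul x hx y hy w hw, h.sec.add _ (hz x hx w hw) _ (hz y hy w hw)]
  obtain ⟨C, hC⟩ := hS.descend₂ hS (fun x y => π (⁅x, y⁆ ^ 2 ^ e)) ha1
    (fun y hy w hw => by rw [hy.2 w hw, h.sec.one])
    (fun x hx y hy w hw => by
      rw [hsy x hx _ (mul_mem hy hw), ha1 y hy w hw x hx, hsy x hx y hy, hsy x hx w hw])
    fun x hx w hw => by rw [hsy x hx w hw.1, hw.2 x hx, h.sec.one]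
  have h4 := h.u3.alt_zero (C := C) (ρ := RingEquiv.refl F) (fun a => by
      obtain ⟨y, hy, rfl⟩ := hS.surj a
      rw [hC y hy y hy, commutatorElement_self, one_pow, h.sec.one]) fun a ha u v => by
    obtain ⟨k, hk, rfl⟩ := h.surj h.sec h.le a ha
    obtain ⟨x, hx, rfl⟩ := hS.surj u
    obtain ⟨y, hy, rfl⟩ := hS.surj v
    rw [← hS.conj k hk x hx, ← hS.conj k hk y hy, hC _ (conj_mem h.norm hk hx) _ (conj_mem h.norm hk hy),
      hC x hx y hy, ← conjugate_commutatorElement, conj_pow, h.sec.conj k hk _ (hz x hx y hy)]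
    rfl
  exact e0 ((hpw _ hx₀ _).mpr fun y hy => mem_bot.mp ((h.sec.ker _ (hz _ hx₀ y hy)).mp
    (hC _ hx₀ y hy ▸ h4 _ _)))

/-- `X` has odd order and permutes the involutions of the `2`-group `P` transitively. -/
structure TR (P Z X : Subgroup G) : Prop where
  two : IsPGroup 2 P
  norm : X ≤ normalizer (P : Set G)
  odd : Odd (Nat.card X)
  mem : ∀ {x}, x ∈ Z ↔ x ∈ P ∧ x * x = 1
  cent : ∀ z ∈ Z, ∀ x ∈ P, Commute z x
  tr : ∀ a ∈ Z, ∀ b ∈ Z, a ≠ 1 → b ≠ 1 → ∃ x ∈ X, x * a * x⁻¹ = b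

namespace TR

variable [Finite G] {P Z X : Subgroup G} (h : TR P Z X)
include h

theorem le : Z ≤ P := fun _ hx => (h.mem.mp hx).1

theorem normZ : X ≤ normalizer (Z : Set G) := fun k hk => mem_norm_of fun x hx =>
  h.mem.mpr ⟨conj_mem h.norm hk (h.le hx), by rw [conj_mul, (h.mem.mp hx).2]; simp⟩

theorem le_of_ne_bot {Y : Subgroup G} (hY : Y ≤ P) (hX : X ≤ normalizer (Y : Set G)) (h0 : Y ≠ ⊥) :
    Z ≤ Y := fun z hz => by
  obtain ⟨u, hu, h2, -⟩ := exists_central (h.two.to_le hY) h0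
  by_cases e : z = 1
  · exact e ▸ one_mem _
  obtain ⟨x, hx, rfl⟩ := h.tr u (h.mem.mpr ⟨hY hu, mul_self_of_two h2⟩) z hz (ne_one_of_two h2) e
  exact conj_mem hX hx hu

theorem exists_mod {N : Subgroup G} (hN : N ≤ P) (hP : P ≤ normalizer (N : Set G)) (h0 : ¬ N ≤ Z) :
    ∃ w ∈ N, w ∉ Z ∧ w * w ∈ Z ∧ ∀ g ∈ P, ⁅w, g⁆ ∈ Z := by
  haveI := fact_two
  haveI : (Z.subgroupOf P).Normal := PGrp.normal_of_le_center fun z hz => mem_center_iff.mpr
    fun g => Subtype.ext (h.cent z hz g g.2).symm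
  haveI : (N.subgroupOf P).Normal := (normal_subgroupOf_iff_le_normalizer hN).mpr hP
  obtain ⟨y, hy, hyZ, h1, hc⟩ := PGrp.exists_mem_central_mod h.two (Z.subgroupOf P)
    (N.subgroupOf P) fun e => h0 fun x hx => e (show (⟨x, hN hx⟩ : P) ∈ _ from hx)
  exact ⟨y, hy, hyZ, sq (y : G) ▸ h1, fun g hg => hc ⟨g, hg⟩⟩

theorem sq_trick {w d : G} (hw : w ∈ P) (hwZ : w ∉ Z) (hw2 : w * w ∈ Z) (hd : d ∈ P) (hdZ : d ∉ Z)
    (hd2 : d * d ∈ Z) (hc : ∀ x ∈ X, Commute d (x * w * x⁻¹)) :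
    ∃ x ∈ X, ∃ z ∈ Z, d = z * (x * w * x⁻¹) := by
  obtain ⟨x, hx, e⟩ := h.tr _ hw2 _ hd2 (fun e => hwZ (h.mem.mpr ⟨hw, e⟩)) fun e => hdZ (h.mem.mpr ⟨hd, e⟩)
  refine ⟨x, hx, d * (x * w * x⁻¹)⁻¹, h.mem.mpr ⟨mul_mem hd (inv_mem (conj_mem h.norm hx hw)), ?_⟩, by group⟩
  rw [(hc x hx).inv_right.symm.mul_mul_mul_comm, ← e, ← mul_inv_rev, conj_mul, mul_inv_cancel]

theorem caseA (hC : ¬ X ⊓ centralizer (Z : Set G) ≤ centralizer (P : Set G)) : sqg P ≤ Z := by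
  haveI := fact_two
  set C := X ⊓ centralizer (Z : Set G) with hCdef
  have hXC : X ≤ normalizer (C : Set G) := norm_inf le_normalizer (norm_cent h.normZ)
  have hCP : C ≤ normalizer (P : Set G) := inf_le_left.trans h.norm
  have hc2 : (Nat.card C).Coprime 2 :=
    Nat.coprime_two_right.mpr (h.odd.of_dvd_nat (card_dvd_of_le inf_le_left))
  have hcop : ∀ {Y : Subgroup G}, Y ≤ P → (Nat.card C).Coprime (Nat.card Y) := fun hY =>
    coprime_card_of_isPGroup (h.two.to_le hY) hc2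
  have hZC : Z ≤ centralizer (C : Set G) := le_centralizer_iff.mp inf_le_right
  have h4 : ∀ x ∈ P, x ^ 4 = 1 → x * x ∈ Z := fun x hx e =>
    h.mem.mpr ⟨mul_mem hx hx, by rw [← e]; simp [pow_succ, mul_assoc]⟩
  have hne : ∀ {Y : Subgroup G}, Y ≤ P → C ≤ normalizer (Y : Set G) → ¬ C ≤ centralizer (Y : Set G) →
      ¬ C ≤ centralizer ((⁅Y, C⁆ : Subgroup G) : Set G) := fun hY hn h1 h2 =>
    h1 (le_centralizer_of_commutator_le_centralizer hn (hcop hY) (le_centralizer_iff.mp h2))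
  let W : Subgroup G :=
    { carrier := {y | y ∈ P ∧ ∀ x ∈ P, ⁅y, x⁆ ∈ Z}
      one_mem' := ⟨one_mem _, fun x _ => by simp [one_mem]⟩
      mul_mem' := fun {a b} ha hb => ⟨mul_mem ha.1 hb.1, fun x hx => by
        rw [PGrp.commutator_mul_left (h.cent _ (hb.2 x hx) a ha.1) (h.cent _ (hb.2 x hx) x hx)]
        exact mul_mem (ha.2 x hx) (hb.2 x hx)⟩
      inv_mem' := fun {a} ha => ⟨inv_mem ha.1, fun x hx => by
        have := h.cent _ (inv_mem (ha.2 x hx)) a ha.1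
        rw [show ⁅a⁻¹, x⁆ = a⁻¹ * (⁅a, x⁆⁻¹ * a) by simp [commutatorElement_def, mul_assoc], this.eq,
          inv_mul_cancel_left]
        exact inv_mem (ha.2 x hx)⟩ }
  have hWP : W ≤ P := fun _ hx => hx.1
  have hZW : Z ≤ W := fun z hz => ⟨h.le hz, fun x hx => by
    rw [(h.cent z hz x hx).commutator_eq]; exact one_mem _⟩
  have hXW : X ≤ normalizer (W : Set G) := fun k hk => mem_norm_of fun y hy =>
    ⟨conj_mem h.norm hk hy.1, fun x hx => by
      have := conj_mem h.normZ hk (hy.2 _ (conj_mem' h.norm hk hx))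
      rwa [conjugate_commutatorElement, show k * (k⁻¹ * x * k) * k⁻¹ = x by group] at this⟩
  have hWZ : ⁅W, P⁆ ≤ Z := commutator_le.mpr fun a ha x hx => ha.2 x hx
  have hPW : P ≤ normalizer (W : Set G) := fun k hk => mem_norm_of fun y hy => by
    simpa [commutatorElement_def, mul_assoc] using mul_mem (inv_mem (hZW (hy.2 k hk))) hy
  have s1 : ¬ C ≤ centralizer (W : Set G) := fun e => by
    have h1 := commutator_le_centralizer_of_centralizes hPW e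
    have h2 := commutator_le_of_le_normalizer hCP
    have h3 := hne le_rfl hCP hC
    have hXH : X ≤ normalizer ((⁅P, C⁆ : Subgroup G) : Set G) := norm_comm h.norm hXC
    obtain ⟨w, hw, hwZ, hw2, hwc⟩ := h.exists_mod h2 (normalizer_commutator_ge_left _ _) fun e =>
      h3 (le_centralizer_iff.mp (e.trans hZC))
    refine h3 (le_centralizer_of_omega_two (h.two.to_le h2) (inf_le_left.trans hXH) hc2 fun d hd d4 => ?_)
    by_cases hdZ : d ∈ Z
    · exact hZC hdZ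
    obtain ⟨x, hx, z, hz, rfl⟩ := h.sq_trick (h2 hw) hwZ hw2 (h2 hd) hdZ (h4 d (h2 hd) d4) fun x hx =>
      (h1 hd _ (conj_mem hXW hx ⟨h2 hw, hwc⟩)).symm
    exact mul_mem (hZC hz) (le_centralizer_iff.mp e (conj_mem hXW hx ⟨h2 hw, hwc⟩))
  let W₂ : Subgroup G :=
    { carrier := {y | y ∈ W ∧ y * y ∈ Z}
      one_mem' := ⟨one_mem _, by simp [one_mem]⟩
      mul_mem' := fun {a b} ha hb => ⟨mul_mem ha.1 hb.1, by
        have h1 := hb.1.2 a ha.1.1
        have := PGrp.mul_pow_eq_of_commute (h.cent _ h1 a ha.1.1) (h.cent _ h1 b hb.1.1) 2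
        simp only [sq, Nat.choose_self, pow_one] at this
        exact this ▸ mul_mem (mul_mem ha.2 hb.2) h1⟩
      inv_mem' := fun {a} ha => ⟨inv_mem ha.1, by simpa using inv_mem ha.2⟩ }
  have hW2 : W₂ ≤ W := fun _ hx => hx.1
  have hXW2 : X ≤ normalizer (W₂ : Set G) := fun k hk => mem_norm_of fun y hy =>
    ⟨conj_mem hXW hk hy.1, by rw [conj_mul]; exact conj_mem h.normZ hk hy.2⟩
  have s2 := hne (hW2.trans hWP) (inf_le_left.trans hXW2) fun e => s1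
    (le_centralizer_of_omega_two (h.two.to_le hWP) (inf_le_left.trans hXW) hc2 fun d hd d4 =>
      le_centralizer_iff.mp e ⟨hd, h4 d hd.1 d4⟩)
  have h5 := commutator_le_of_le_normalizer (inf_le_left.trans hXW2 : C ≤ _)
  have hX3 : X ≤ normalizer ((⁅W₂, C⁆ : Subgroup G) : Set G) := norm_comm hXW2 hXC
  obtain ⟨w, hw, hwC⟩ := SetLike.not_le_iff_exists.mp (mt le_centralizer_iff.mp s2)
  set D := P ⊓ centralizer (C : Set G) with hD
  have h6 : ⁅W₂, C⁆ ≤ centralizer (D : Set G) := by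
    rw [← commutator_eq_bot_iff_le_centralizer]
    refine commutator_commutator_eq_bot_of_rotate ?_ ?_
    · rw [commutator_comm C, commutator_eq_bot_iff_le_centralizer.mpr (inf_le_right : D ≤ _),
        commutator_bot_left]
    · rw [commutator_eq_bot_iff_le_centralizer, commutator_comm]
      exact ((commutator_mono hW2 inf_le_left).trans hWZ).trans hZC
  have hXD : X ≤ normalizer (D : Set G) := norm_inf h.norm (norm_cent hXC)
  have s3 : D ≤ Z := by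
    by_contra e
    have hZD : Z ≤ D := le_inf h.le hZC
    have hD' : TR D Z X := ⟨h.two.to_le inf_le_left, hXD, h.odd, ⟨fun hx => ⟨hZD hx, (h.mem.mp hx).2⟩,
      fun hx => h.mem.mpr ⟨hx.1.1, hx.2⟩⟩, fun z hz x hx => h.cent z hz x hx.1, h.tr⟩
    obtain ⟨d, hd, hdZ, hd2, -⟩ := hD'.exists_mod le_rfl le_normalizer e
    obtain ⟨x, hx, z, hz, rfl⟩ := h.sq_trick (h5 hw).1.1 (fun e => hwC (hZC e)) (h5 hw).2 hd.1 hdZ hd2
      fun x hx => h6 (conj_mem hX3 hx hw) d hd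
    refine hwC (?_ : w ∈ D).2
    simpa [mul_assoc] using conj_mem' hXD hx ((mul_mem_cancel_left (hZD hz)).mp hd)
  have s4 : ∀ A ≤ P, X ≤ normalizer (A : Set G) → IsMulCommutative A → A ≤ Z := fun A hA hn hc =>
    (le_inf hA (le_centralizer_iff.mp (le_centralizer_of_prime_order (inf_le_left.trans hn) (hcop hA)
      fun v hv hp c hc => (hZC (h.mem.mpr ⟨hA hv, ?_⟩) c hc)))).trans s3
  swap
  · obtain ⟨k, hk⟩ := IsPGroup.iff_orderOf.mp h.two ⟨v, hA hv⟩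
    rw [← orderOf_coe] at hk
    exact mul_self_of_two ((Nat.prime_dvd_prime_iff_eq hp Nat.prime_two).mp
      (hp.dvd_of_dvd_pow (Dvd.intro 1 ((mul_one _).trans hk))))
  have hP' : ⁅P, P⁆ ≤ P := (comm_le_sqg P).trans (sqg_le P)
  have hZP : ⁅Z, P⁆ = ⊥ := commutator_eq_bot_iff_le_centralizer.mpr fun z hz x hx => (h.cent z hz x hx).symm
  have s5 : ⁅P, P⁆ ≤ Z := by
    by_contra e
    obtain ⟨y, hy, hyZ, -, hc⟩ := h.exists_mod hP' (norm_comm le_normalizer le_normalizer) e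
    have h7 : ⁅P, P⁆ ≤ centralizer (W : Set G) := by
      rw [← commutator_eq_bot_iff_le_centralizer]
      refine commutator_commutator_eq_bot_of_rotate ?_ ?_
      · exact eq_bot_iff.mpr ((commutator_mono (commutator_comm P W ▸ hWZ) le_rfl).trans hZP.le)
      · exact eq_bot_iff.mpr ((commutator_mono hWZ le_rfl).trans hZP.le)
    exact hyZ (s4 (⁅P, P⁆ ⊓ W) (inf_le_right.trans hWP) (norm_inf (norm_comm h.norm h.norm) hXW)
      (PGrp.isMulCommutative_iff_forall.mpr fun a ha b hb => h7 hb.1 a ha.2) ⟨hy, hP' hy, hc⟩)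
  refine sqg_le_iff.mpr fun x hx => s4 (P ⊓ centralizer (P : Set G)) inf_le_left
    (norm_inf h.norm (norm_cent h.norm))
    (PGrp.isMulCommutative_iff_forall.mpr fun x hx y hy => hy.2 x hx.1) ⟨mul_mem hx hx, fun y hy => ?_⟩
  have h8 := s5 (commutator_mem_commutator hy hx)
  rw [← commutatorElement_eq_one_iff_mul_comm, ← sq, PGrp.commutator_pow_right (h.cent _ h8 x hx), sq,
    (h.mem.mp h8).2]

theorem cent_le (hq : sqg P ≤ Z) (hna : ¬ IsMulCommutative P) {y : G} (hy : y ∈ P)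
    (hc : ∀ x ∈ P, Commute y x) : y ∈ Z := by
  let A := P ⊓ centralizer (P : Set G)
  have hA : IsMulCommutative A :=
    PGrp.isMulCommutative_iff_forall.mpr fun x hx y hy => hy.2 x hx.1
  by_contra hn
  have h0 : sqg A ≠ ⊥ := fun e => hn (h.mem.mpr ⟨hy, mem_bot.mp (e ▸ sq_mem_sqg
    (show y ∈ A from ⟨hy, fun x hx => (hc x hx).symm⟩))⟩)
  have h1 := h.le_of_ne_bot ((sqg_le A).trans inf_le_left)
    (norm_sqg (norm_inf h.norm (norm_cent h.norm))) h0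
  refine hna (PGrp.isMulCommutative_iff_forall.mpr fun x hx w hw => ?_)
  obtain ⟨a, ha, e⟩ := (mem_sqg hA).mp (h1 (hq (sq_mem_sqg hx)))
  have h2 : Commute a⁻¹ x := (show Commute x a from ha.2 x hx).symm.inv_left
  have h3 := h.cent _ (h.mem.mpr ⟨mul_mem hx (inv_mem ha.1), by
    rw [h2.mul_mul_mul_comm, ← e]; group⟩) w hw
  simpa using (h3.mul_left (show Commute w a from ha.2 w hw).symm).eq

end TR

end Cfsg.Lib.Sz2
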