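import Cfsg.Agent.Lib.Sz2.D

/-! The faithful case: semilinear coordinates on the involutions. -/

set_option autoImplicit false
set_option linter.unusedSectionVars false
set_option linter.style.haveILetI false

namespace Cfsg.Lib.Sz2

open Subgroup Cfsg.Lib.BS Cfsg.Lib.Transfer Cfsg.Lib.Invol Cfsg.Lib.Coprime
open scoped commutatorElement

theorem semi {X Z : Type*} [Group X] [Finite X] [Group Z] [Finite Z] [Nontrivial Z]
    (hs : Group.IsSolvable X) (h2 : ∀ z : Z, z * z = 1) (φ : X →* MulAut Z) (hi : Function.Injective φ)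
    (ht : ∀ a b : Z, a ≠ 1 → b ≠ 1 → ∃ g, φ g a = b) :
    ∃ (F : Type) (_ : Field F) (_ : Fintype F) (_ : CharP F 2) (e : Z ≃ F) (θ : X →* (F ≃+* F)) (a : X → F),
      (∀ x y, e (x * y) = e x + e y) ∧ ∀ g z, e (φ g z) = a g * θ g (e z) := by
  haveI := fact_two
  letI : CommGroup Z := { ‹Group Z› with
    mul_comm := fun a b => by
      rw [← inv_eq_of_mul_eq_one_right (h2 (a * b)), mul_inv_rev, inv_eq_of_mul_eq_one_right (h2 a),
        inv_eq_of_mul_eq_one_right (h2 b)] }
  letI : Module (ZMod 2) (Additive Z) := AddCommGroup.zmodModule fun x => by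
    rw [two_nsmul]; exact h2 x.toMul
  let ρ : X →* (Additive Z ≃ₗ[ZMod 2] Additive Z) := MonoidHom.mk'
    (fun g => (MulEquiv.toAdditive (φ g)).toLinearEquiv fun c x => ZMod.map_smul _ c x)
    fun g k => LinearEquiv.ext fun x => by
      change Additive.ofMul (φ (g * k) x.toMul) = Additive.ofMul (φ g (φ k x.toMul))
      rw [map_mul]; rfl
  obtain ⟨F, _, _, e, h⟩ := (Cfsg.Agent.S3360.result 2 hs ρ
    (fun g k e => hi (MulEquiv.ext fun z => LinearEquiv.congr_fun e (Additive.ofMul z)))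
    fun v w hv hw => ht v.toMul w.toMul hv hw).resolve_right fun hc => by
      obtain ⟨z, hz⟩ := exists_ne (1 : Z)
      have : 2 ∣ Nat.card (Additive Z) := two_of_mul_self (h2 z) hz ▸ orderOf_dvd_natCard z
      simp only [Set.mem_insert_iff, Set.mem_singleton_iff] at hc; omega
  choose a σ h using h
  have h' : ∀ (g : X) (x : F), e (ρ g (e.symm x)) = a g * σ g x := fun g x => by rw [h, e.apply_symm_apply]
  have a0 : ∀ g, a g ≠ 0 := fun g t => by
    have := h' g 1
    rw [t, zero_mul, map_eq_zero_iff _ e.injective, map_eq_zero_iff _ (ρ g).injective,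
      map_eq_zero_iff _ e.symm.injective] at this
    exact one_ne_zero this
  have m : ∀ g k x, a (g * k) * σ (g * k) x = a g * σ g (a k) * σ g (σ k x) := fun g k x => by
    rw [← h', map_mul, LinearEquiv.mul_apply, h, h', map_mul, mul_assoc]
  let θ : X →* (F ≃+* F) := MonoidHom.mk' σ fun g k => RingEquiv.ext fun x =>
    mul_left_cancel₀ (a0 (g * k)) (by
      have := m g k 1
      rw [map_one, map_one, map_one, mul_one, mul_one] at this
      rw [m, this]; rfl)
  refine ⟨F, inferInstance, inferInstance, CharTwo.of_one_ne_zero_of_two_eq_zero one_ne_zero ?_,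
    Additive.ofMul.trans e.toEquiv, θ, a, fun x y => map_add e _ _, fun g z => h g _⟩
  have : e (e.symm 1 + e.symm 1) = e 0 := congrArg e (h2 (e.symm 1).toMul)
  rwa [map_add, map_zero, e.apply_symm_apply, one_add_one_eq_two] at this

theorem roots_of {K F : Type*} [Group K] [Finite K] [Field F] (χ : K →* F) (hi : Function.Injective χ)
    (u : F) (hu : u ^ Nat.card K = 1) : ∃ k, χ k = u := by
  classical
  haveI := Fintype.ofFinite K
  have h1 : Finset.univ.image χ = (Polynomial.nthRoots (Nat.card K) (1 : F)).toFinset :=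
    Finset.eq_of_subset_of_card_le (fun a ha => by
      obtain ⟨k, -, rfl⟩ := Finset.mem_image.mp ha
      rw [Multiset.mem_toFinset, Polynomial.mem_nthRoots Nat.card_pos, ← map_pow, pow_card_eq_one',
        map_one]) (by
      rw [Finset.card_image_of_injective _ hi, Finset.card_univ, ← Nat.card_eq_fintype_card]
      exact (Multiset.toFinset_card_le _).trans (Polynomial.card_nthRoots _ _))
  obtain ⟨k, -, e⟩ := Finset.mem_image.mp (h1.ge (by
    rw [Multiset.mem_toFinset, Polynomial.mem_nthRoots Nat.card_pos]; exact hu))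
  exact ⟨k, e⟩

theorem U3.span {F : Type*} [Field F] [Finite F] [CharP F 2] {N : ℕ} (h : U3 F N) :
    AddSubgroup.closure {u : F | u ^ N = 1} = ⊤ := by
  classical
  haveI := fact_two
  let S : Submonoid F :=
    { carrier := {u : F | u ^ N = 1}
      one_mem' := one_pow N
      mul_mem' := fun {a b} ha hb => by rw [Set.mem_ofPred_eq, mul_pow, ha, hb, one_mul] }
  let R := Subring.closure (S : Set F)
  haveI := Fintype.ofFinite R
  letI := Fintype.fieldOfDomain R
  obtain ⟨n, -, hn⟩ := FiniteField.card R 2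
  have h1 := h (iterateFrobeniusEquiv F 2 n) (RingEquiv.refl F) (frobeniusEquiv F 2) fun u hu => by
    have := congrArg Subtype.val (FiniteField.pow_card (⟨u, Subring.subset_closure hu⟩ : R))
    rw [hn] at this
    rw [iterateFrobeniusEquiv_def, frobeniusEquiv_def, sq]
    exact congrArg (· * u) this
  have h2 := card_le_of_pow (F := F) (Nat.one_lt_two_pow n.ne_zero) fun x => by
    rw [← iterateFrobeniusEquiv_def, h1]; rfl
  rw [← hn, ← Nat.card_eq_fintype_card] at h2
  have h3 := AddSubgroup.eq_top_of_le_card R.toAddSubgroup h2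
  refine eq_top_iff.mpr fun x _ => ?_
  have := Subring.mem_closure_iff.mp (h3.ge (AddSubgroup.mem_top x))
  rwa [Submonoid.closure_eq] at this

variable {G : Type*} [Group G]

theorem TR.caseB [Finite G] {P Z X : Subgroup G} (h : TR P Z X)
    (hf : X ⊓ centralizer (Z : Set G) = ⊥) (hb : 2 < Nat.card Z) (hna : ¬ IsMulCommutative P) :
    sqg P ≤ Z := by
  classical
  haveI := fact_two
  haveI : Nontrivial Z := Finite.one_lt_card_iff_nontrivial.mp (by omega)
  have hi : Function.Injective (conjAut h.normZ) := (injective_iff_map_eq_one _).mpr fun g hg =>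
    Subtype.ext (mem_bot.mp (hf ▸ mem_inf.mpr ⟨g.2, (mem_ker_conjAut h.normZ g).mp hg⟩))
  have ht : ∀ a b : Z, a ≠ 1 → b ≠ 1 → ∃ g, conjAut h.normZ g a = b := fun a b ha hb => by
    obtain ⟨x, hx, e⟩ := h.tr a a.2 b b.2 (by simpa using ha) (by simpa using hb)
    exact ⟨⟨x, hx⟩, Subtype.ext e⟩
  obtain ⟨F, _, _, _, e, θ, a, e1, e2⟩ := semi (solvable_of_odd h.odd)
    (fun z : Z => Subtype.ext (h.mem.mp z.2).2) _ hi ht
  set φ := conjAut h.normZ
  have e0 : e 1 = 0 := by simpa using e1 1 1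
  have e3 : ∀ k : θ.ker, ∀ z, e (φ k z) = a k * e z := fun k z => by rw [e2, show θ k = 1 from k.2]; rfl
  let χ₀ : θ.ker →* F :=
    { toFun := fun k => a k
      map_one' := by simpa using (e3 1 (e.symm 1)).symm
      map_mul' := fun k l => by
        have := e3 (k * l) (e.symm 1)
        rw [coe_mul, map_mul, MulAut.mul_apply, e3, e3] at this
        simpa using this.symm }
  have hχ : Function.Injective χ₀ := fun k l e4 => Subtype.ext (hi (MulEquiv.ext fun z =>
    e.injective (by rw [e3, e3]; exact congrArg (· * e z) e4)))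
  set K := θ.ker.map X.subtype with hK
  have hKX : K ≤ X := map_subtype_le _
  have hc : Nat.card K = Nat.card θ.ker := card_map_of_injective X.subtype_injective
  have hfp : Fpf Z K := fpf_iff.mpr (by
    rintro _ ⟨k, hk, rfl⟩ hk1 z hz e4
    by_contra hz1
    have h1 := e3 ⟨k, hk⟩ ⟨z, hz⟩
    rw [(conjAut_eq_iff h.normZ k ⟨z, hz⟩).mpr e4, eq_comm, mul_eq_right₀ fun e5 =>
      hz1 (congrArg Subtype.val (e.injective (e5.trans e0.symm)))] at h1
    exact hk1 (congrArg (fun x : θ.ker => ((x : X) : G)) (hχ (a₁ := ⟨k, hk⟩) (h1.trans (map_one χ₀).symm))))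
  have hfP : Fpf P K := fpf_iff.mpr fun k hk hk1 x hx e4 => by
    by_contra hx1
    obtain ⟨n, hn⟩ := PGrp.exists_pow_orderOf_eq h.two (x := ⟨x, hx⟩) (by simpa using hx1)
    rw [← orderOf_coe, coe_pow] at hn
    exact ne_one_of_two hn (hfp.eq_one hk hk1 (h.mem.mpr ⟨pow_mem hx n, mul_self_of_two hn⟩)
      (Commute.pow_right e4 n))
  obtain ⟨⟨n, n0⟩, -, hn⟩ := FiniteField.card F 2
  rw [← Nat.card_eq_fintype_card, PNat.mk_coe] at hn
  have hZ : Nat.card Z = Nat.card F := Nat.card_congr e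
  obtain ⟨m, hm⟩ := hfp.card_dvd (hKX.trans h.normZ)
  rw [hZ, hn] at hm
  have hmn : m ∣ n := by
    letI := MulAction.compHom Z φ
    obtain ⟨z, hz⟩ := exists_ne (1 : Z)
    have h1 := (MulAction.stabilizer X z).index_dvd_card
    have h2 : MulAction.orbit X z = {1}ᶜ := Set.ext fun y =>
      ⟨by rintro ⟨g, rfl⟩; exact fun e4 => hz ((map_eq_one_iff _ (φ g).injective).mp e4), ht z y hz⟩
    have h3 := Set.ncard_add_ncard_compl ({1} : Set Z)
    rw [MulAction.index_stabilizer, h2, show ({1}ᶜ : Set Z).ncard = 2 ^ n - 1 by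
      rw [Set.ncard_singleton, hZ, hn] at h3; omega, hm, ← θ.ker.card_mul_index, index_ker, hc] at h1
    exact (Nat.dvd_of_mul_dvd_mul_left Nat.card_pos h1).trans (card_aut hn ▸ card_subgroup_dvd_card _)
  obtain ⟨hp, h3, h4⟩ := arith hn n0 hm.symm hmn
  let π : G → F := fun z => if hz : z ∈ Z then e ⟨z, hz⟩ else 0
  let χ : G → F := fun g => if hg : g ∈ X then a ⟨g, hg⟩ else 0
  have hπ : ∀ z : Z, π z = e z := fun z => dif_pos z.2
  have hS : Sec K Z ⊥ π χ := ⟨bot_le, hKX.trans h.normZ, fun x hx y hy => by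
      rw [hπ ⟨x, hx⟩, hπ ⟨y, hy⟩, ← e1]; exact hπ (⟨x, hx⟩ * ⟨y, hy⟩),
    fun x hx => by rw [hπ ⟨x, hx⟩, ← e0, e.injective.eq_iff, mem_bot, Subtype.ext_iff]; rfl,
    fun c => ⟨e.symm c, (e.symm c).2, by rw [hπ, e.apply_symm_apply]⟩, by
      rintro _ ⟨k, hk, rfl⟩ x hx
      rw [hπ ⟨x, hx⟩, show χ (X.subtype k) = a k from dif_pos k.2, ← e3 ⟨k, hk⟩]
      exact hπ (φ k ⟨x, hx⟩),
    eq_top_iff.mpr (h3.span.ge.trans (AddSubgroup.closure_mono fun u hu => by
      obtain ⟨k, rfl⟩ := roots_of χ₀ hχ u (hc ▸ hu)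
      exact ⟨_, ⟨k, k.2, rfl⟩, dif_pos k.1.2⟩))⟩
  have hW : SW P Z K π χ := ⟨h.two, hKX.trans h.norm, PGrp.isMulCommutative_iff_forall.mpr (by
      rintro _ ⟨k, hk, rfl⟩ _ ⟨l, hl, rfl⟩
      exact congrArg (fun x : θ.ker => ((x : X) : G)) (hχ (a₁ := ⟨k, hk⟩ * ⟨l, hl⟩) (a₂ := ⟨l, hl⟩ * ⟨k, hk⟩)
        (by rw [map_mul, map_mul, mul_comm]))),
    h.mem, h.cent, hfP, hS, h.odd.of_dvd_nat (card_dvd_of_le hKX), hZ ▸ hb, h3⟩
  rcases h4 with h4 | h4
  · exact hW.sqg_le_Z h4 hp hna
  haveI : Fact (Nat.Prime 3) := ⟨Nat.prime_three⟩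
  obtain ⟨y, hy⟩ := exists_prime_orderOf_dvd_card' 3 h4
  refine hW.class_two (fun a ha x hx w hw => (class_two_of_fpf (S := P) (y := (y : G))
    (fun x hx => conj_mem hW.norm y.2 hx) (fun x hx e4 => hfP.eq_one y.2 (fun e5 => ?_) hx e4)
    (by rw [← coe_pow, ← hy, pow_orderOf_eq_one]; rfl) (fun x hx e4 => ?_) ha hx hw).symm) hna
  · rw [show y = 1 from Subtype.ext e5, orderOf_one] at hy; omega
  · obtain ⟨k, hk⟩ := IsPGroup.iff_orderOf.mp h.two ⟨x, hx⟩
    rw [← orderOf_coe] at hk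
    exact orderOf_eq_one_iff.mp (Nat.eq_one_of_dvd_coprimes (Nat.Coprime.pow_right k (by norm_num))
      (orderOf_dvd_of_pow_eq_one e4) (Dvd.intro 1 ((mul_one _).trans hk)))

theorem TR.main [Finite G] {P Z X : Subgroup G} (h : TR P Z X)
    (hf : X ⊓ centralizer (P : Set G) = ⊥) (hb : 2 < Nat.card Z) (hna : ¬ IsMulCommutative P) :
    sqg P ≤ Z := by
  by_cases hC : X ⊓ centralizer (Z : Set G) ≤ centralizer (P : Set G)
  · exact h.caseB (eq_bot_iff.mpr ((le_inf inf_le_left hC).trans hf.le)) hb hna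
  · exact h.caseA hC

theorem relIndex_eq_of_coprime [Finite G] {S X Y : Subgroup G} (hX : X ≤ Y)
    (h : (S.relIndex Y).Coprime (X.relIndex Y)) : S.relIndex X = S.relIndex Y := by
  refine le_antisymm (relIndex_le_of_le_right hX index_ne_zero_of_finite)
    (Nat.le_of_dvd (Nat.pos_of_ne_zero index_ne_zero_of_finite) (h.dvd_of_dvd_mul_right ?_))
  rw [← inf_relIndex_right S X, relIndex_mul_relIndex _ _ _ inf_le_right hX]
  exact relIndex_dvd_of_le_left _ inf_le_left

end Cfsg.Lib.Sz2
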